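import Cfsg.Agent.Lib.Mult.Basic

/-! The commutator map of a central extension and invariant biadditive forms. -/

set_option autoImplicit false

namespace Cfsg.Agent.Mult

open Subgroup
open scoped commutatorElement

section cm
variable {Γ G : Type*} [Group Γ] [Group G] {σ : Γ →* G} (hσ : IsStemExtension σ)

/-- A set-theoretic section of a stem extension. -/
noncomputable def sec (g : G) : Γ := Function.surjInv hσ.1 g

@[simp] theorem map_sec (g : G) : σ (sec hσ g) = g := Function.surjInv_eq hσ.1 g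

/-- The commutator of two lifts. -/
noncomputable def cm (g g' : G) : Γ := ⁅sec hσ g, sec hσ g'⁆

theorem cm_eq (x y : Γ) : ⁅x, y⁆ = cm hσ (σ x) (σ y) :=
  commutator_congr hσ.2.1 (by simp) (by simp)

@[simp] theorem map_cm (g g' : G) : σ (cm hσ g g') = ⁅g, g'⁆ := by
  simp [cm, map_commutatorElement]

theorem cm_mem_ker {g g' : G} (h : Commute g g') : cm hσ g g' ∈ σ.ker := by
  rw [MonoidHom.mem_ker, map_cm, commutatorElement_eq_one_iff_commute]; exact h

include hσ in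
theorem commute_of_mem_ker {z : Γ} (hz : z ∈ σ.ker) (x : Γ) : Commute x z :=
  mem_center_iff.mp (hσ.2.1 hz) x

theorem cm_conj (x : Γ) (g g' : G) :
    x * cm hσ g g' * x⁻¹ = cm hσ (σ x * g * (σ x)⁻¹) (σ x * g' * (σ x)⁻¹) := by
  rw [cm, conjugate_commutatorElement, cm_eq hσ]; simp

theorem cm_conj_of_commute {g g' : G} (h : Commute g g') (k : G) :
    cm hσ (k * g * k⁻¹) (k * g' * k⁻¹) = cm hσ g g' := by
  have := cm_conj hσ (sec hσ k) g g'
  rw [map_sec, (commute_of_mem_ker hσ (cm_mem_ker hσ h) _).eq, mul_inv_cancel_right] at this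
  exact this.symm

theorem cm_mul_left {g g' y : G} (h : Commute (sec hσ g) (cm hσ g' y)) :
    cm hσ (g * g') y = cm hσ g' y * cm hσ g y := by
  have := commutator_mul_left h
  rwa [cm_eq hσ, map_mul, map_sec, map_sec, map_sec] at this

theorem cm_mul_right {g y y' : G} (h : Commute (sec hσ y) (cm hσ g y')) :
    cm hσ g (y * y') = cm hσ g y * cm hσ g y' := by
  have := commutator_mul_right h
  rwa [cm_eq hσ, map_mul, map_sec, map_sec, map_sec] at this

theorem cm_mul_left' {g' y : G} (h : Commute g' y) (g : G) :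
    cm hσ (g * g') y = cm hσ g' y * cm hσ g y :=
  cm_mul_left hσ (commute_of_mem_ker hσ (cm_mem_ker hσ h) _)

theorem cm_mul_right' {g y' : G} (h : Commute g y') (y : G) :
    cm hσ g (y * y') = cm hσ g y * cm hσ g y' :=
  cm_mul_right hσ (commute_of_mem_ker hσ (cm_mem_ker hσ h) _)

theorem cm_eq_one_iff {x y : Γ} : cm hσ (σ x) (σ y) = 1 ↔ Commute x y := by
  rw [← cm_eq, commutatorElement_eq_one_iff_commute]

theorem cm_swap (g g' : G) : cm hσ g' g = (cm hσ g g')⁻¹ := by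
  rw [cm, cm, commutatorElement_inv]

theorem cm_pow_self (g : G) (n : ℕ) : cm hσ g (g ^ n) = 1 := by
  have := (cm_eq_one_iff hσ).mpr ((Commute.refl (sec hσ g)).pow_right n)
  rwa [map_pow, map_sec] at this

end cm

/-- A biadditive form `β` on a field with `β μ (N μ * d) = β 1 d` is trivial as soon as
`μ ↦ (N μ)⁻¹` fails to be additive at some pair `(1, a)`. -/
theorem form_trivial {F A : Type*} [Field F] [Group A] (β : F → F → A) (N : F → F)
    (h1 : ∀ a a' d, β (a + a') d = β a' d * β a d) (h2 : ∀ a d d', β a (d + d') = β a d * β a d')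
    (hN : ∀ μ, μ ≠ 0 → N μ ≠ 0) (hinv : ∀ μ d, μ ≠ 0 → β μ (N μ * d) = β 1 d)
    {a : F} (ha : a ≠ 0) (ha1 : 1 + a ≠ 0) (hne : (N (1 + a))⁻¹ ≠ (N a)⁻¹ + 1) (b d : F) :
    β b d = 1 := by
  have h3 : ∀ μ d, μ ≠ 0 → β μ d = β 1 ((N μ)⁻¹ * d) := fun μ d hμ => by
    rw [← hinv μ _ hμ, mul_inv_cancel_left₀ (hN μ hμ)]
  have h4 : ∀ d, β 1 d = 1 := fun d => by
    have he := sub_ne_zero.mpr hne
    obtain ⟨y, rfl⟩ : ∃ y, d = ((N (1 + a))⁻¹ - ((N a)⁻¹ + 1)) * y :=
      ⟨_, (mul_inv_cancel_left₀ he d).symm⟩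
    have h5 := h1 1 a y
    rw [h3 _ _ ha1, h3 _ _ ha, ← h2] at h5
    have h6 := h2 1 (((N (1 + a))⁻¹ - ((N a)⁻¹ + 1)) * y) ((N a)⁻¹ * y + y)
    rw [← h5, show ((N (1 + a))⁻¹ - ((N a)⁻¹ + 1)) * y + ((N a)⁻¹ * y + y) = (N (1 + a))⁻¹ * y by
      ring] at h6
    exact right_eq_mul.mp h6
  by_cases hb : b = 0
  · have := h1 0 0 d
    rw [add_zero] at this
    rw [hb]; exact right_eq_mul.mp this
  · rw [h3 _ _ hb, h4]

end Cfsg.Agent.Mult
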