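import Cfsg.Agent.Lib.Mult.Eng
import Cfsg.Agent.Lib.CG.Glue2

/-! The multiplier checker on a coded permutation group: generators are words in the letters of the action. -/

set_option autoImplicit false

namespace Cfsg.Agent.Mult

open Cfsg.Agent.CG

/-- The action of the words of a list; the letter `0` is the empty word. -/
noncomputable def appW (app : ℕ → ℕ → ℕ) (wds : List (List ℕ)) (a x : ℕ) : ℕ :=
  evp app (nth ([] :: wds) [] a) x

/-- The coded action whose letters are words. -/
noncomputable def actW {G X : Type*} [Group G] [MulAction G X] (A : Act G X) (wds : List (List ℕ)) :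
    Act G X where
  gen a := ev A.gen (nth ([] :: wds) [] a)
  app := appW A.app wds
  ok := A.ok
  pt := A.pt
  ok_app _ _ hx := A.ok_evp _ hx
  smul_pt _ _ hx := A.ev_smul _ hx
  inj := A.inj

/-- Unpack a list of packed words. -/
noncomputable def unp (b fl : ℕ) (l : List ℕ) : List ℕ :=
  List.rec (motive := fun _ => List ℕ) [] (fun u _ ih => app2 (digs b (msk b) fl u) ih) l

/-- The packed words of a list have at most `fl` letters. -/
noncomputable def okp (b fl : ℕ) (l : List ℕ) : Bool :=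
  allL (fun u => Nat.beq (Nat.shiftRight u (Nat.mul b fl)) 0) l

theorem ev_unp {Γ : Type*} [Group Γ] (y : ℕ → Γ) {b fl : ℕ} (hb : 0 < b) : ∀ l : List ℕ,
    okp b fl l = true → ev y (unp b fl l) = ev (evN y b) l
  | [], _ => rfl
  | u :: l, h => by
    have e : unp b fl (u :: l) = app2 (digs b (msk b) fl u) (unp b fl l) := rfl
    have h : band (Nat.beq (Nat.shiftRight u (Nat.mul b fl)) 0) (okp b fl l) = true := h
    rw [band_eq, beq_iff] at h
    rw [e, app2_eq, ev_append, ev_unp y hb l h.2, digs_eq hb _ _ h.1, ev_cons]; rfl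

namespace Dat
variable (D : Dat)

/-- The power-commutator relations number `lo ≤ x < lo + cnt` hold on the base. -/
noncomputable def chkPc (app : ℕ → ℕ → ℕ) (B : List ℕ) (lo cnt : ℕ) : Bool :=
  allRange (fun x => force (Nat.div x D.n1) fun j => force (Nat.mod x D.n1) fun i => bor (blt j i)
    (force (wdOf D.T D.ew x) fun u => band (okp D.b D.fl (lhsL D.p j i)) (band (okp D.b D.fl (rhsL u j i))
      (eqW app B (unp D.b D.fl (lhsL D.p j i)) (unp D.b D.fl (rhsL u j i)))))) lo cnt

/-- The fusion relations number `lo ≤ x < lo + cnt` hold on the base. -/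
noncomputable def chkFus (app : ℕ → ℕ → ℕ) (B : List ℕ) (lo cnt : ℕ) : Bool :=
  allRange (fun x => force (Nat.add D.n1 (Nat.div x D.cm)) fun g => force (D.q1 x) fun u =>
    force (D.q2 x) fun v => band (okp D.b D.fl [u, v])
      (eqW app B (g :: unp D.b D.fl [u]) (app2 (unp D.b D.fl [v]) [g]))) lo cnt

variable {D}

theorem chkPc_append {app : ℕ → ℕ → ℕ} {B : List ℕ} {lo c e : ℕ} (h1 : D.chkPc app B lo c = true)
    (h2 : D.chkPc app B (lo + c) e = true) : D.chkPc app B lo (c + e) = true := allRange_append h1 h2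

theorem chkFus_append {app : ℕ → ℕ → ℕ} {B : List ℕ} {lo c e : ℕ} (h1 : D.chkFus app B lo c = true)
    (h2 : D.chkFus app B (lo + c) e = true) : D.chkFus app B lo (c + e) = true := allRange_append h1 h2

theorem rels_of_chk {G X : Type*} [Group G] [MulAction G X] {A : Act G X} {B : List ℕ}
    (hB : A.IsBase B) (h0 : A.gen 0 = 1) (hb : 0 < D.b)
    (h1 : D.chkPc A.app B 0 (D.n1 * D.n1) = true) (h2 : D.chkFus A.app B 0 (D.nf * D.cm) = true) :
    D.Rels A.gen := by
  unfold chkPc at h1
  unfold chkFus at h2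
  rw [allRange_iff] at h1 h2
  refine ⟨h0, fun j i a1 a2 => ?_, fun f i a1 a2 => ?_⟩
  · have e1 := h1 (j * D.n1 + i) (Nat.zero_le _) (by nlinarith)
    have e2 : Nat.div (j * D.n1 + i) D.n1 = j := by
      change (j * D.n1 + i) / D.n1 = j
      rw [add_comm, Nat.add_mul_div_right _ _ (by omega), Nat.div_eq_of_lt (by omega), zero_add]
    have e3 : Nat.mod (j * D.n1 + i) D.n1 = i := by
      change (j * D.n1 + i) % D.n1 = i
      rw [Nat.mul_add_mod_self_right, Nat.mod_eq_of_lt (by omega)]
    simp only [force_eq, e2, e3, bor_eq, band_eq, blt_iff] at e1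
    obtain ⟨f1, f2, f3⟩ := e1.resolve_left (by omega)
    rw [← ev_unp _ hb _ f1, ← ev_unp _ hb _ f2]
    exact hB.ev_eq f3
  · have e1 := h2 (f * D.cm + i) (Nat.zero_le _) (by nlinarith)
    have e2 : Nat.div (f * D.cm + i) D.cm = f := by
      change (f * D.cm + i) / D.cm = f
      rw [add_comm, Nat.add_mul_div_right _ _ (by omega), Nat.div_eq_of_lt a2, zero_add]
    simp only [force_eq, e2, band_eq] at e1
    obtain ⟨f1, f3⟩ := e1
    unfold okp at f1
    rw [allL_iff] at f1
    have g1 : okp D.b D.fl [D.q1 (f * D.cm + i)] = true :=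
      (allL_iff _ _).mpr fun u hu => f1 u (by simp at hu; simp [hu])
    have g2 : okp D.b D.fl [D.q2 (f * D.cm + i)] = true :=
      (allL_iff _ _).mpr fun u hu => f1 u (by simp at hu; simp [hu])
    have := hB.ev_eq f3
    rw [ev_cons, app2_eq, ev_append, ev_unp _ hb _ g1, ev_unp _ hb _ g2, ev_singleton, ev_singleton,
      ev_singleton] at this
    exact this

/-- The scalar conditions. -/
noncomputable def chkNum (D : Dat) (e n N : ℕ) (w2 : List (List ℕ)) (L : List Lvl) : Bool :=
  band (Nat.beq D.q (Nat.pow D.p (Nat.succ e))) (band (Nat.beq D.n1 (Nat.succ n))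
    (band (allL (fun m => Nat.beq (Nat.mod (Nat.pow D.p e) m) 0) D.ms)
    (band (bnot (Nat.beq (Nat.mod N (Nat.pow D.p (Nat.succ n))) 0))
    (band (Nat.ble (Nat.pow D.p n) (prodN L)) (band (blt 0 D.b)
    (allL (allL fun a => band (blt 0 a) (Nat.ble a n)) w2))))))

/-- The checker on a coded group. -/
theorem pbA {G X : Type*} [Group G] [MulAction G X] [Finite G] {A : Act G X} {B : List ℕ}
    (hB : A.IsBase B) {N : ℕ} (hN : Nat.card G = N) {w1 w2 : List (List ℕ)} {L : List Lvl} {e n : ℕ}
    (hp : D.p.Prime) (hL : ∀ b ∈ bases L, A.ok b) (hnum : D.chkNum e n N w2 L = true)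
    (c1 : headAll (appW (appW A.app w1) w2) L [] = true)
    (c2 : allL (fun l => l.chk (appW (appW A.app w1) w2) 1 (l.N - 1)) L = true)
    (r1 : D.chkPc (appW A.app w1) B 0 (D.n1 * D.n1) = true)
    (r2 : D.chkFus (appW A.app w1) B 0 (D.nf * D.cm) = true)
    (h0 : D.chkHead = true) (h1 : D.chkVars 0 D.NV = true)
    (h2 : D.chkRhos 0 D.r = true) (h3 : D.chkEnts 0 (D.n1 * D.n1) = true) : PB G D.p D.ms := by
  simp only [chkNum, band_eq, beq_iff, allL_iff, bnot_eq, beq_false_iff, ble_iff, blt_iff] at hnum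
  obtain ⟨a1, a2, a3, a4, a5, a6, a7⟩ := hnum
  have hc := chainOK_of_chk (actW (actW A w1) w2) L [] (by simp) hL c1 c2
  refine Dat.pb (y := (actW A w1).gen) hp a1 a2 (fun m hm => Nat.dvd_of_mod_eq_zero (a3 m hm))
    (rels_of_chk (A := actW A w1) hB rfl a6 r1 r2) (le_trans a5 (hc.prodN_le_card_of_mem fun l _ a _ => ?_))
    (fun hd => a4 (Nat.mod_eq_zero_of_dvd (hN ▸ hd))) h0 h1 h2 h3
  refine ev_mem _ fun c hc => Subgroup.subset_closure ⟨c, ?_, rfl⟩
  rw [nth_eq] at hc
  cases a with
  | zero => simp at hc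
  | succ a =>
    rw [List.getD_cons_succ] at hc
    by_cases hl : a < w2.length
    · rw [List.getD_eq_getElem _ _ hl] at hc
      exact a7 _ (List.getElem_mem _) c hc
    · rw [List.getD_eq_default _ _ (by omega)] at hc
      simp at hc

end Dat

/-- A level of a chain with small tables; positions are found modulo `m`. -/
noncomputable def mkLvl (b : ℕ) (S : List ℕ) (N w c pa la m q : ℕ) : Lvl :=
  ⟨b, S, N, fun i => look (msk w) c (Nat.mul w i), fun i => look (msk w) pa (Nat.mul w i),
    fun i => look (msk w) la (Nat.mul w i), fun _ => 0,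
    fun x => look (msk w) q (Nat.mul w (Nat.mod x m)), 0⟩

/-- The check for a cyclic Sylow subgroup. -/
noncomputable def chkCyc (app : ℕ → ℕ → ℕ) (B : List ℕ) (N p a d : ℕ) (v : List ℕ) : Bool :=
  band (bnot (Nat.beq (Nat.mod N (Nat.pow p (Nat.add a 2))) 0))
    (band (eqW app B (powL (Nat.mul (Nat.pow p (Nat.succ a)) d) v) [])
      (bnot (eqW app B (powL (Nat.mul (Nat.pow p a) d) v) [])))

theorem pb_cyc {G X : Type*} [Group G] [MulAction G X] [Finite G] {A : Act G X} {B : List ℕ}
    (hB : A.IsBase B) {N : ℕ} (hN : Nat.card G = N) {p a d : ℕ} {v : List ℕ} (hp : p.Prime)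
    (h : chkCyc A.app B N p a d v = true) : PB G p [] := by
  simp only [chkCyc, band_eq, bnot_eq, beq_false_iff] at h
  obtain ⟨h1, h2, h3⟩ := h
  have e2 := hB.ev_eq h2
  have e3 := A.ev_ne_of_eqW hB.1 h3
  rw [ev_powL, ev_nil] at e2 e3
  exact PB.of_orderOf (a := a + 1) _ (pow_dvd_orderOf hp e2 e3)
    fun hd => h1 (Nat.mod_eq_zero_of_dvd (hN ▸ hd))

end Cfsg.Agent.Mult
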