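import Cfsg.Agent.Lib.Mult.Basic
import Cfsg.Agent.Lib.CG.TC

/-! Bounds for the Schur multiplier, one prime at a time. -/

set_option autoImplicit false

namespace Cfsg.Agent.Mult

open Subgroup Cfsg.Agent.CG
open scoped commutatorElement

universe u v

/-- `ks` are kernel elements killed by the numbers `ms`. -/
def Gens {Γ G : Type*} [Group Γ] [Group G] (σ : Γ →* G) (ks : List Γ) (ms : List ℕ) : Prop :=
  List.Forall₂ (fun k m => k ∈ σ.ker ∧ k ^ m = 1) ks ms

/-- The `p`-part of the kernel of every finite stem extension of `G` lies in a subgroup generated by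
elements killed by the numbers `ms`. -/
def PB (G : Type u) [Group G] (p : ℕ) (ms : List ℕ) : Prop :=
  ∀ (Γ : Type u) [Group Γ] [Finite Γ] (σ : Γ →* G), IsStemExtension σ →
    ∃ ks : List Γ, Gens σ ks ms ∧ ∀ z ∈ σ.ker, ∃ d, ¬ p ∣ d ∧ z ^ d ∈ closure {k | k ∈ ks}

/-- The bound for all primes of the list `ps` together. -/
def PBs (G : Type u) [Group G] (ps : List ℕ) (ms : List ℕ) : Prop :=
  ∀ (Γ : Type u) [Group Γ] [Finite Γ] (σ : Γ →* G), IsStemExtension σ →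
    ∃ ks : List Γ, Gens σ ks ms ∧ ∀ z ∈ σ.ker, ∀ p ∈ ps, ∃ d, ¬ p ∣ d ∧ z ^ d ∈ closure {k | k ∈ ks}

/-- The kernel of every finite stem extension of `G` is generated by elements killed by `ms`. -/
def MB (G : Type u) [Group G] (ms : List ℕ) : Prop :=
  ∀ (Γ : Type u) [Group Γ] [Finite Γ] (σ : Γ →* G), IsStemExtension σ →
    ∃ ks : List Γ, Gens σ ks ms ∧ σ.ker ≤ closure {k | k ∈ ks}

variable {G : Type u} [Group G]

theorem PBs.nil : PBs G [] [] := fun _ _ _ _ _ => ⟨[], List.Forall₂.nil, by simp⟩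

theorem PBs.cons {p : ℕ} {ps ms ms' : List ℕ} (h1 : PB G p ms) (h2 : PBs G ps ms') :
    PBs G (p :: ps) (ms ++ ms') := fun Γ _ _ σ hσ => by
  obtain ⟨k1, g1, c1⟩ := h1 Γ σ hσ
  obtain ⟨k2, g2, c2⟩ := h2 Γ σ hσ
  refine ⟨k1 ++ k2, List.rel_append g1 g2, fun z hz r hr => ?_⟩
  rcases List.mem_cons.mp hr with rfl | hr
  · obtain ⟨d, hd, hz⟩ := c1 z hz
    exact ⟨d, hd, closure_mono (fun k hk => List.mem_append_left _ hk) hz⟩
  · obtain ⟨d, hd, hz⟩ := c2 z hz r hr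
    exact ⟨d, hd, closure_mono (fun k hk => List.mem_append_right _ hk) hz⟩

theorem PBs.mb [Finite G] {ps ms : List ℕ} (h : PBs G ps ms) {N : ℕ} (hN : Nat.card G = N)
    (hps : ∀ p, p.Prime → p ∣ N → p ∈ ps) : MB G ms := fun Γ _ _ σ hσ => by
  obtain ⟨ks, g, c⟩ := h Γ σ hσ
  refine ⟨ks, g, fun z hz => ?_⟩
  have hle : closure {k | k ∈ ks} ≤ σ.ker := by
    rw [closure_le]
    intro k hk
    obtain ⟨i, hi, rfl⟩ := List.getElem_of_mem hk
    exact (g.get hi (g.length_eq ▸ hi)).1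
  have := normal_of_le_ker hσ.2.1 hle
  rw [← QuotientGroup.eq_one_iff]
  refine eq_one_of_forall_prime fun p hp => ?_
  by_cases hd : p ∣ N
  · obtain ⟨d, h1, h2⟩ := c z hz p (hps p hp hd)
    exact ⟨d, h1, (QuotientGroup.eq_one_iff _).mpr h2⟩
  · refine ⟨N, hd, ?_⟩
    have h1 := pow_index_eq_one hσ (⊥ : Subgroup G) hz
    rw [index_bot, hN] at h1
    rw [← QuotientGroup.mk_pow, h1, QuotientGroup.mk_one]

/-- The primes dividing a product of prime powers. -/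
theorem primes_of_eq_prod {N : ℕ} {ps es : List ℕ} (hp : ∀ p ∈ ps, p.Prime)
    (h : N = (List.zipWith (· ^ ·) ps es).prod) : ∀ p, p.Prime → p ∣ N → p ∈ ps := by
  intro p hpp hd
  rw [h, (Nat.Prime.prime hpp).dvd_prod_iff] at hd
  obtain ⟨a, ha, hd⟩ := hd
  obtain ⟨i, hi, rfl⟩ := List.getElem_of_mem ha
  rw [List.getElem_zipWith] at hd
  have := (Nat.prime_dvd_prime_iff_eq hpp (hp _ (List.getElem_mem _))).mp (hpp.dvd_of_dvd_pow hd)
  rw [this]; exact List.getElem_mem _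

theorem PB.congr {G' : Type u} [Group G'] (e : G ≃* G') {p : ℕ} {ms : List ℕ} (h : PB G p ms) :
    PB G' p ms := fun Γ _ _ σ hσ => by
  have := h Γ (e.symm.toMonoidHom.comp σ) (isStem_comp hσ e.symm)
  have hk : (e.symm.toMonoidHom.comp σ).ker = σ.ker := by ext; simp
  simpa only [Gens, hk] using this

theorem MB.congr {G' : Type u} [Group G'] (e : G ≃* G') {ms : List ℕ} (h : MB G ms) :
    MB G' ms := fun Γ _ _ σ hσ => by
  have := h Γ (e.symm.toMonoidHom.comp σ) (isStem_comp hσ e.symm)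
  have hk : (e.symm.toMonoidHom.comp σ).ker = σ.ker := by ext; simp
  simpa only [Gens, hk] using this

theorem not_dvd_index [Finite G] {p a : ℕ} {H : Subgroup G} (hH : Nat.card H = p ^ a)
    (hG : ¬ p ^ (a + 1) ∣ Nat.card G) : ¬ p ∣ H.index := fun hd => hG (by
  rw [← H.card_mul_index, hH, pow_succ]; exact Nat.mul_dvd_mul_left _ hd)

/-- A cyclic subgroup of index prime to `p`. -/
theorem PB.of_orderOf [Finite G] {p a : ℕ} (g : G) (hg : p ^ a ∣ orderOf g)
    (hG : ¬ p ^ (a + 1) ∣ Nat.card G) : PB G p [] := fun Γ _ _ σ hσ => by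
  refine ⟨[], List.Forall₂.nil, fun z hz => ⟨(zpowers g).index, fun hd => hG ?_, ?_⟩⟩
  · rw [← (zpowers g).card_mul_index, Nat.card_zpowers, pow_succ]
    exact Nat.mul_dvd_mul hg hd
  · rw [pow_index_eq_one hσ _ hz]; exact one_mem _

theorem pow_dvd_orderOf {g : G} {p a d : ℕ} (hp : p.Prime) (h1 : g ^ (p ^ (a + 1) * d) = 1)
    (h2 : g ^ (p ^ a * d) ≠ 1) : p ^ (a + 1) ∣ orderOf g := by
  have : Fact p.Prime := ⟨hp⟩
  have h3 : orderOf (g ^ d) = p ^ (a + 1) :=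
    orderOf_eq_prime_pow (by rwa [← pow_mul, mul_comm]) (by rwa [← pow_mul, mul_comm])
  rw [← h3]; exact orderOf_pow_dvd d

/-- It suffices to treat the stem extensions whose kernel has exponent dividing `p * r`. -/
theorem PB.of_exponent {p r : ℕ} {ms : List ℕ} (hp : p.Prime) (hr : ∀ m ∈ ms, m ∣ r)
    (h : ∀ (Γ : Type u) [Group Γ] [Finite Γ] (σ : Γ →* G), IsStemExtension σ →
      (∀ z ∈ σ.ker, z ^ (p * r) = 1) → ∃ ks : List Γ, Gens σ ks ms ∧ σ.ker ≤ closure {k | k ∈ ks}) :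
    PB G p ms := fun Γ _ _ σ hσ => by
  have hc : ∀ z ∈ σ.ker, ∀ g, Commute g z := fun z hz g => mem_center_iff.mp (hσ.2.1 hz) g
  let Q : Subgroup Γ :=
    { carrier := {x | ∃ z ∈ σ.ker, x = z ^ (p * r)}
      one_mem' := ⟨1, one_mem _, by simp⟩
      mul_mem' := by
        rintro _ _ ⟨a, ha, rfl⟩ ⟨b, hb, rfl⟩
        exact ⟨a * b, mul_mem ha hb, ((hc b hb a).mul_pow _).symm⟩
      inv_mem' := by
        rintro _ ⟨a, ha, rfl⟩
        exact ⟨a⁻¹, inv_mem ha, by simp⟩ }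
  have hQ : Q ≤ σ.ker := by rintro _ ⟨a, ha, rfl⟩; exact pow_mem ha _
  have := normal_of_le_ker hσ.2.1 hQ
  obtain ⟨ks, g, c⟩ := h _ _ (isStem_quotient hσ Q hQ) (fun z hz => by
    obtain ⟨z, rfl⟩ := QuotientGroup.mk_surjective z
    rw [← QuotientGroup.mk_pow, QuotientGroup.eq_one_iff]
    exact ⟨z, hz, rfl⟩)
  obtain ⟨a, d, hd, hcard⟩ := Nat.exists_eq_pow_mul_and_not_dvd (Nat.card_pos (α := Γ)).ne' p hp.ne_one
  have hk : ∀ k ∈ ks, k.out ∈ σ.ker ∧ k.out ^ r ∈ Q := by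
    intro k hk
    obtain ⟨i, hi, rfl⟩ := List.getElem_of_mem hk
    obtain ⟨h1, h2⟩ := g.get hi (g.length_eq ▸ hi)
    obtain ⟨t, ht⟩ := hr _ (List.get_mem ms ⟨i, g.length_eq ▸ hi⟩)
    refine ⟨?_, ?_⟩
    · have : QuotientGroup.lift Q σ hQ ((ks[i].out : Γ) : Γ ⧸ Q) = 1 := by
        rw [QuotientGroup.out_eq']; exact h1
      exact this
    · rw [← QuotientGroup.eq_one_iff, QuotientGroup.mk_pow, QuotientGroup.out_eq', ht, pow_mul]
      exact (congrArg (· ^ t) h2).trans (one_pow t)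
  have hdec : ∀ z ∈ σ.ker, ∃ x ∈ σ.ker, x ^ r ∈ Q ∧ x ^ d ∈ closure {k | k ∈ ks.map (fun k : Γ ⧸ Q => (k.out : Γ) ^ d)} ∧
      x⁻¹ * z ∈ Q := by
    intro z hz
    have h1 : (z : Γ ⧸ Q) ∈ closure {k | k ∈ ks} := c (show (z : Γ ⧸ Q) ∈ _ from hz)
    suffices hs : ∀ y ∈ closure {k | k ∈ ks}, ∃ x ∈ σ.ker, x ^ r ∈ Q ∧
        x ^ d ∈ closure {k | k ∈ ks.map (fun k : Γ ⧸ Q => (k.out : Γ) ^ d)} ∧ (x : Γ ⧸ Q) = y by
      obtain ⟨x, x1, x2, x3, x4⟩ := hs _ h1
      exact ⟨x, x1, x2, x3, QuotientGroup.eq.mp x4⟩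
    intro y hy
    induction hy using closure_induction with
    | mem k hk' =>
      exact ⟨k.out, (hk k hk').1, (hk k hk').2, subset_closure (List.mem_map.mpr ⟨k, hk', rfl⟩),
        QuotientGroup.out_eq' k⟩
    | one => exact ⟨1, one_mem _, by simp [one_mem], by simp [one_mem], rfl⟩
    | mul a b _ _ ha hb =>
      obtain ⟨x, x1, x2, x3, rfl⟩ := ha
      obtain ⟨y, y1, y2, y3, rfl⟩ := hb
      refine ⟨x * y, mul_mem x1 y1, ?_, ?_, rfl⟩ <;> rw [(hc y y1 x).mul_pow]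
      exacts [mul_mem x2 y2, mul_mem x3 y3]
    | inv a _ ha =>
      obtain ⟨x, x1, x2, x3, rfl⟩ := ha
      refine ⟨x⁻¹, inv_mem x1, ?_, ?_, rfl⟩ <;> rw [inv_pow]
      exacts [inv_mem x2, inv_mem x3]
  have hstep : ∀ j : ℕ, ∀ z ∈ σ.ker, ∃ y ∈ σ.ker, z ^ r = y ^ (r * p ^ j) := by
    intro j
    induction j with
    | zero => exact fun z hz => ⟨z, hz, by simp⟩
    | succ j ih =>
      intro z hz
      obtain ⟨x, x1, x2, -, x4⟩ := hdec z hz
      have h1 : z ^ r ∈ Q := by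
        have : z ^ r = x ^ r * (x⁻¹ * z) ^ r := by
          rw [← (hc _ (hQ x4) x).mul_pow, mul_inv_cancel_left]
        rw [this]; exact mul_mem x2 (pow_mem x4 _)
      obtain ⟨y, y1, y2⟩ := h1
      obtain ⟨t, t1, t2⟩ := ih y y1
      exact ⟨t, t1, by rw [y2, mul_comm p, pow_mul, t2, ← pow_mul, pow_succ, mul_assoc]⟩
  have hkill : ∀ x ∈ Q, x ^ d = 1 := by
    rintro _ ⟨z, hz, rfl⟩
    obtain ⟨y, -, hy⟩ := hstep a z hz
    rw [mul_comm p, pow_mul, hy, ← pow_mul, ← pow_mul,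
      show r * p ^ a * (p * d) = p ^ a * d * (r * p) by ring, ← hcard, pow_mul, pow_card_eq_one',
      one_pow]
  refine ⟨ks.map (fun k : Γ ⧸ Q => (k.out : Γ) ^ d), ?_, fun z hz => ⟨d, hd, ?_⟩⟩
  · rw [Gens, List.forall₂_map_left_iff]
    refine List.forall₂_iff_get.mpr ⟨g.length_eq, fun i h1 h2 => ?_⟩
    refine ⟨pow_mem (hk _ (List.get_mem _ _)).1 _, ?_⟩
    rw [← pow_mul, mul_comm, pow_mul]
    apply hkill
    rw [← QuotientGroup.eq_one_iff, QuotientGroup.mk_pow, QuotientGroup.out_eq']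
    exact (g.get h1 h2).2
  · obtain ⟨x, x1, -, x3, x4⟩ := hdec z hz
    have : z ^ d = x ^ d * (x⁻¹ * z) ^ d := by
      rw [← (hc _ (hQ x4) x).mul_pow, mul_inv_cancel_left]
    rw [this, hkill _ x4, mul_one]; exact x3

/-- A subgroup `Y` mapping isomorphically onto a subgroup of index prime to the exponent of the kernel
forces a stem extension to be trivial. -/
theorem ker_eq_bot_of_split {Γ : Type*} [Group Γ] [Finite Γ] [Finite G] {σ : Γ →* G}
    (hσ : IsStemExtension σ) {p e n : ℕ} (hp : p.Prime) (hq : ∀ z ∈ σ.ker, z ^ p ^ e = 1)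
    (Y : Subgroup Γ) (hY : Nat.card Y ≤ p ^ n) (hP : p ^ n ≤ Nat.card (Y.map σ))
    (hG : ¬ p ^ (n + 1) ∣ Nat.card G) : σ.ker = ⊥ := by
  have hsurj := MonoidHom.subgroupMap_surjective σ Y
  have hle := Nat.card_le_card_of_surjective _ hsurj
  have hb : Function.Bijective (σ.subgroupMap Y) :=
    (Nat.bijective_iff_surjective_and_card _).mpr ⟨hsurj, by omega⟩
  have hidx := not_dvd_index (H := Y.map σ) (le_antisymm (hle.trans hY) hP) hG
  rw [eq_bot_iff]
  intro z hz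
  have h1 := pow_index_mem hσ (Y.map σ) hz
  have h2 : ⁅(Y.map σ).comap σ, (Y.map σ).comap σ⁆ ≤ Y := by
    rw [commutator_le]
    rintro a ⟨a', ha, ea⟩ b ⟨b', hb, eb⟩
    rw [← commutator_congr hσ.2.1 ea eb, commutatorElement_def]
    exact mul_mem (mul_mem (mul_mem ha hb) (inv_mem ha)) (inv_mem hb)
  have h3 : z ^ (Y.map σ).index = 1 := congrArg Subtype.val
    (hb.1 (a₁ := ⟨_, h2 h1⟩) (a₂ := 1) (Subtype.ext (show σ _ = σ 1 from (MonoidHom.mem_ker.mp (pow_mem hz _)).trans σ.map_one.symm)))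
  rw [mem_bot, ← orderOf_eq_one_iff]
  exact Nat.eq_one_of_dvd_coprimes (Nat.Coprime.pow_left e ((hp.coprime_iff_not_dvd).mpr hidx))
    (orderOf_dvd_of_pow_eq_one (hq z hz)) (orderOf_dvd_of_pow_eq_one h3)

/-- The order bound of a power-commutator presentation. -/
theorem pc_card_le {Γ : Type*} [Group Γ] [Finite Γ] (y : ℕ → Γ) {p n : ℕ} (hp : 0 < p)
    (h1 : ∀ i j, 1 ≤ i → i < j → j ≤ n → (y i)⁻¹ * y j * y i ∈ closure (y '' {l | i < l ∧ l ≤ n}))
    (h2 : ∀ i, 1 ≤ i → i ≤ n → y i ^ p ∈ closure (y '' {l | i < l ∧ l ≤ n})) :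
    Nat.card (closure (y '' {l | 0 < l ∧ l ≤ n})) ≤ p ^ n := by
  have key : ∀ k i, i + k = n → Nat.card (closure (y '' {l | i < l ∧ l ≤ n})) ≤ p ^ k := by
    intro k
    induction k with
    | zero =>
      intro i hi
      have : {l | i < l ∧ l ≤ n} = ∅ := by ext l; simp; omega
      rw [this]; simp
    | succ k ih =>
      intro i hi
      set H := closure (y '' {l | i + 1 < l ∧ l ≤ n}) with hH
      have hn : y (i + 1) ∈ normalizer (H : Set Γ) := by
        rw [← inv_mem_iff]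
        apply mem_normalizer_fintype
        intro g hg
        have : H ≤ H.comap (MulAut.conj (y (i + 1))⁻¹).toMonoidHom := by
          rw [hH, closure_le]
          rintro _ ⟨l, hl, rfl⟩
          simpa using h1 (i + 1) l (by omega) hl.1 hl.2
        simpa using this hg
      have hle : H ≤ closure (y '' {l | i < l ∧ l ≤ n}) :=
        closure_mono (Set.image_mono fun l hl => ⟨by have := hl.1; omega, hl.2⟩)
      have hcos : ∀ g ∈ closure (y '' {l | i < l ∧ l ≤ n}), ∃ t : ℕ, (y (i + 1) ^ t)⁻¹ * g ∈ H := by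
        intro g hg
        induction hg using closure_induction_left with
        | one => exact ⟨0, by simp [one_mem]⟩
        | mul_left x hx g _ ihg =>
          obtain ⟨l, hl, rfl⟩ := hx
          obtain ⟨t, ht⟩ := ihg
          by_cases hl' : l = i + 1
          · exact ⟨t + 1, by rw [hl', pow_succ']; simpa [mul_assoc] using ht⟩
          · have h3 : y l ∈ H := subset_closure ⟨l, ⟨by have := hl.1; omega, hl.2⟩, rfl⟩
            have h4 := (mem_normalizer_iff.mp (inv_mem (pow_mem hn t)) _).mp h3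
            exact ⟨t, by simpa [mul_assoc] using mul_mem h4 ht⟩
        | inv_mul_cancel x hx g _ ihg =>
          obtain ⟨l, hl, rfl⟩ := hx
          obtain ⟨t, ht⟩ := ihg
          by_cases hl' : l = i + 1
          · refine ⟨t + (orderOf (y l) - 1), ?_⟩
            have h5 : y l ^ (orderOf (y l) - 1) = (y l)⁻¹ := by
              rw [eq_inv_iff_mul_eq_one, ← pow_succ, Nat.sub_add_cancel (orderOf_pos _),
                pow_orderOf_eq_one]
            rw [← hl', add_comm t, pow_add, h5]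
            rw [← hl'] at ht
            simpa [mul_assoc] using ht
          · have h3 : (y l)⁻¹ ∈ H :=
              inv_mem (subset_closure ⟨l, ⟨by have := hl.1; omega, hl.2⟩, rfl⟩)
            have h4 := (mem_normalizer_iff.mp (inv_mem (pow_mem hn t)) _).mp h3
            exact ⟨t, by simpa [mul_assoc] using mul_mem h4 ht⟩
      have := (finite_card_le_of_cosets hle (N := p) (fun t => ((y (i + 1) ^ t : Γ) : Γ ⧸ H))
        fun g hg => by
          obtain ⟨t, ht⟩ := hcos g hg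
          refine ⟨t % p, Nat.mod_lt _ hp, ?_⟩
          rw [eq_comm, QuotientGroup.eq]
          have h6 := pow_mem (h2 (i + 1) (by omega) (by omega)) (t / p)
          have h7 : (y (i + 1) ^ (t % p))⁻¹ * g = (y (i + 1) ^ p) ^ (t / p) * ((y (i + 1) ^ t)⁻¹ * g) := by
            have h8 : y (i + 1) ^ t = y (i + 1) ^ (t % p) * (y (i + 1) ^ p) ^ (t / p) := by
              rw [← pow_mul, ← pow_add, Nat.mod_add_div]
            rw [h8]; group
          rw [h7]; exact mul_mem h6 ht).2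
      rw [pow_succ']
      exact this.trans (Nat.mul_le_mul_left _ (ih (i + 1) (by omega)))
  exact key n 0 (by omega)

/-! ### From generators of the kernel to a surjection -/

section surj
variable {Γ : Type*} [Group Γ] {σ : Γ →* G}

/-- The homomorphism from `ZMod m` sending `1` to an element killed by `m`. -/
noncomputable def zmodHom {K : Type*} [CommGroup K] (m : ℕ) (k : K) (hk : k ^ m = 1) :
    Multiplicative (ZMod m) →* K :=
  AddMonoidHom.toMultiplicativeLeft (ZMod.lift m ⟨zmultiplesHom (Additive K) (Additive.ofMul k), by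
    rw [zmultiplesHom_apply, natCast_zsmul, ← ofMul_pow, hk]; rfl⟩)

theorem zmodHom_natCast {K : Type*} [CommGroup K] (m : ℕ) (k : K) (hk : k ^ m = 1) (t : ℕ) :
    zmodHom m k hk (Multiplicative.ofAdd (t : ZMod m)) = k ^ t := by
  have := ZMod.lift_coe m (⟨zmultiplesHom (Additive K) (Additive.ofMul k), by
    rw [zmultiplesHom_apply, natCast_zsmul, ← ofMul_pow, hk]; rfl⟩ :
      {f : ℤ →+ Additive K // f m = 0}) (t : ℤ)
  simp only [Int.cast_natCast] at this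
  simp [zmodHom, this]

theorem surj_of_range {A : Type*} [Group A] (π : A →* σ.ker) {ks : List Γ}
    (h : σ.ker ≤ closure {k | k ∈ ks}) (hk : ∀ k ∈ ks, ∃ a, (π a : Γ) = k) :
    Function.Surjective π := fun z => by
  have : closure {k | k ∈ ks} ≤ (σ.ker.subtype.comp π).range := by
    rw [closure_le]; exact hk
  obtain ⟨a, ha⟩ := this (h z.2)
  exact ⟨a, Subtype.ext ha⟩

end surj

/-- The upper-bound half of `HasSchurMultiplier`. -/
def UB (G : Type u) [Group G] (A : Type v) [CommGroup A] : Prop :=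
  ∀ (Γ : Type u) [Group Γ] [Finite Γ] (σ : Γ →* G), IsStemExtension σ →
    ∃ π : A →* σ.ker, Function.Surjective π

/-- The commutative group structure on the kernel of a stem extension. -/
@[reducible] def kerComm {Γ : Type*} [Group Γ] {σ : Γ →* G} (hσ : IsStemExtension σ) :
    CommGroup σ.ker :=
  { (inferInstance : Group σ.ker) with
    mul_comm := fun a b => Subtype.ext (mem_center_iff.mp (hσ.2.1 b.2) a) }

theorem MB.trivial [Finite G] (h : MB G []) : HasCyclicSchurMultiplier G 1 :=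
  hasCyclicSchurMultiplier_one fun Γ _ _ σ hσ => by
    obtain ⟨ks, g, c⟩ := h Γ σ hσ
    cases g
    simpa using c

theorem MB.ub_one {m : ℕ} (h : MB G [m]) : UB G (Multiplicative (ZMod m)) := fun Γ _ _ σ hσ => by
  obtain ⟨_, g, c⟩ := h Γ σ hσ
  obtain _ | ⟨⟨h1, h2⟩, _ | _⟩ := g
  let _ := kerComm hσ
  refine ⟨zmodHom m ⟨_, h1⟩ (Subtype.ext h2), surj_of_range _ c ?_⟩
  simp only [List.mem_singleton, forall_eq]
  exact ⟨Multiplicative.ofAdd ((1 : ℕ) : ZMod m), by rw [zmodHom_natCast, pow_one]⟩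

theorem MB.ub_two {m m' : ℕ} (h : MB G [m, m']) :
    UB G (Multiplicative (ZMod m × ZMod m')) := fun Γ _ _ σ hσ => by
  obtain ⟨_, g, c⟩ := h Γ σ hσ
  obtain _ | ⟨⟨h1, h2⟩, _ | ⟨⟨h3, h4⟩, _ | _⟩⟩ := g
  let _ := kerComm hσ
  refine ⟨((zmodHom m ⟨_, h1⟩ (Subtype.ext h2)).coprod (zmodHom m' ⟨_, h3⟩ (Subtype.ext h4))).comp
    (MulEquiv.prodMultiplicative _ _).toMonoidHom, surj_of_range _ c ?_⟩
  simp only [List.mem_cons, List.not_mem_nil, or_false, forall_eq_or_imp, forall_eq]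
  refine ⟨⟨Multiplicative.ofAdd ((1 : ℕ), (0 : ℕ)), ?_⟩, ⟨Multiplicative.ofAdd ((0 : ℕ), (1 : ℕ)), ?_⟩⟩
  all_goals
    change ((zmodHom m ⟨_, h1⟩ (Subtype.ext h2) (Multiplicative.ofAdd ((_ : ℕ) : ZMod m)) *
      zmodHom m' ⟨_, h3⟩ (Subtype.ext h4) (Multiplicative.ofAdd ((_ : ℕ) : ZMod m')) : σ.ker) : Γ) = _
    rw [zmodHom_natCast, zmodHom_natCast]
    simp

theorem MB.ub_three {m m' m'' : ℕ} (h : MB G [m, m', m'']) :
    UB G (Multiplicative (ZMod m × ZMod m' × ZMod m'')) := fun Γ _ _ σ hσ => by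
  obtain ⟨_, g, c⟩ := h Γ σ hσ
  obtain _ | ⟨⟨h1, h2⟩, _ | ⟨⟨h3, h4⟩, _ | ⟨⟨h5, h6⟩, _ | _⟩⟩⟩ := g
  let _ := kerComm hσ
  refine ⟨((zmodHom m ⟨_, h1⟩ (Subtype.ext h2)).coprod (((zmodHom m' ⟨_, h3⟩ (Subtype.ext h4)).coprod
    (zmodHom m'' ⟨_, h5⟩ (Subtype.ext h6))).comp (MulEquiv.prodMultiplicative _ _).toMonoidHom)).comp
    (MulEquiv.prodMultiplicative _ _).toMonoidHom, surj_of_range _ c ?_⟩
  simp only [List.mem_cons, List.not_mem_nil, or_false, forall_eq_or_imp, forall_eq]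
  refine ⟨⟨Multiplicative.ofAdd ((1 : ℕ), (0 : ℕ), (0 : ℕ)), ?_⟩,
    ⟨Multiplicative.ofAdd ((0 : ℕ), (1 : ℕ), (0 : ℕ)), ?_⟩,
    ⟨Multiplicative.ofAdd ((0 : ℕ), (0 : ℕ), (1 : ℕ)), ?_⟩⟩
  all_goals
    change ((zmodHom m ⟨_, h1⟩ (Subtype.ext h2) (Multiplicative.ofAdd ((_ : ℕ) : ZMod m)) *
      (zmodHom m' ⟨_, h3⟩ (Subtype.ext h4) (Multiplicative.ofAdd ((_ : ℕ) : ZMod m')) *
      zmodHom m'' ⟨_, h5⟩ (Subtype.ext h6) (Multiplicative.ofAdd ((_ : ℕ) : ZMod m''))) : σ.ker) : Γ) = _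
    rw [zmodHom_natCast, zmodHom_natCast, zmodHom_natCast]
    simp

theorem UB.of_equiv {A : Type v} {A' : Type*} [CommGroup A] [CommGroup A'] (h : UB G A)
    (e : A' ≃* A) : UB G A' := fun Γ _ _ σ hσ => by
  obtain ⟨π, hπ⟩ := h Γ σ hσ
  exact ⟨π.comp e.toMonoidHom, hπ.comp e.surjective⟩

theorem MB.ub_coprime {m m' : ℕ} (h : MB G [m, m']) (hc : m.Coprime m') :
    UB G (Multiplicative (ZMod (m * m'))) :=
  h.ub_two.of_equiv (AddEquiv.toMultiplicative (ZMod.chineseRemainder hc).toAddEquiv)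

theorem UB.hasSchurMultiplier {A : Type v} [CommGroup A] (h : UB G A)
    (h' : ∃ (Γ : Type u) (_ : Group Γ) (_ : Finite Γ) (σ : Γ →* G),
      IsStemExtension σ ∧ Nonempty (σ.ker ≃* A)) : HasSchurMultiplier G A := ⟨h', h⟩

end Cfsg.Agent.Mult
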