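import Cfsg.Agent.Lib.CG.Glue2

/-! Permutations given by networks of masked swaps, applied to all bits of a number at once. -/

set_option autoImplicit false

namespace Cfsg.Agent.Mult

open Cfsg.Agent.CG

/-- The permutations of `ℕ` that fix every `i ≥ N`. -/
def Fx (N : ℕ) : Subgroup (Equiv.Perm ℕ) where
  carrier := {g | ∀ i, N ≤ i → g i = i}
  mul_mem' := fun {a b} ha hb i hi => by rw [Equiv.Perm.mul_apply, hb i hi, ha i hi]
  one_mem' := fun _ _ => rfl
  inv_mem' := fun {a} ha i hi => by rw [Equiv.Perm.inv_eq_iff_eq, ha i hi]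

theorem Fx.lt {N : ℕ} (g : Fx N) {i : ℕ} (hi : i < N) : g.1 i < N := by
  by_contra h
  have := g.1.injective (g.2 _ (not_lt.mp h))
  omega

theorem Fx.ext {N : ℕ} {g h : Fx N} (e : ∀ i, i < N → g.1 i = h.1 i) : g = h :=
  Subtype.ext (Equiv.ext fun i => if hi : i < N then e i hi else by
    rw [g.2 i (not_lt.mp hi), h.2 i (not_lt.mp hi)])

instance (N : ℕ) : Finite (Fx N) :=
  Finite.of_injective (fun (g : Fx N) (i : Fin N) => (⟨g.1 i, Fx.lt g i.2⟩ : Fin N)) fun _ _ e =>
    Fx.ext fun i hi => congrArg Fin.val (congrFun e ⟨i, hi⟩)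

/-- Swap `i` and `i + d` for the bits `i` of `m`. -/
def swF (d m i : ℕ) : ℕ := if m.testBit i then d + i else if d ≤ i ∧ m.testBit (i - d) then i - d else i

/-- The swaps are disjoint and below `N`. -/
noncomputable def swOK (N : ℕ) (p : ℕ × ℕ) : Bool :=
  band (Nat.beq (Nat.land p.2 (Nat.shiftLeft p.2 p.1)) 0) (Nat.beq (Nat.shiftRight (Nat.shiftLeft p.2 p.1) N) 0)

theorem swOK_spec {N : ℕ} {p : ℕ × ℕ} (h : swOK N p = true) {i : ℕ} (hi : p.2.testBit i = true) :
    p.2.testBit (p.1 + i) = false ∧ p.1 + i < N := by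
  simp only [swOK, band_eq, beq_iff] at h
  constructor
  · have := congrArg (Nat.testBit · (p.1 + i)) h.1
    simpa [hi] using this
  · by_contra hN
    have := congrArg (Nat.testBit · (p.1 + i - N)) h.2
    simp [show N + (p.1 + i - N) = p.1 + i by omega, hi] at this

theorem swF_inv {N : ℕ} {p : ℕ × ℕ} (h : swOK N p = true) : Function.Involutive (swF p.1 p.2) := by
  intro i
  by_cases h1 : p.2.testBit i = true
  · have := swOK_spec h h1
    simp [swF, h1, this.1]
  · by_cases h2 : p.1 ≤ i ∧ p.2.testBit (i - p.1) = true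
    · rw [show swF p.1 p.2 i = i - p.1 by simp [swF, h1, h2]]
      simp only [swF, h2.2, if_true]; omega
    · rw [show swF p.1 p.2 i = i by simp only [swF, h1, h2]; simp]
      simp only [swF, h1, h2]; simp

/-- A stage as a permutation. -/
noncomputable def sw (N : ℕ) (p : ℕ × ℕ) : Fx N :=
  if h : swOK N p = true then ⟨(swF_inv h).toPerm, fun i hi => by
    change swF p.1 p.2 i = i
    unfold swF
    rw [if_neg fun h1 => by have := swOK_spec h h1; omega,
      if_neg fun h1 => by have := swOK_spec h h1.2; omega]⟩ else 1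

/-- A stage on the bits of a number. -/
def swp (p : ℕ × ℕ) (x : ℕ) : ℕ :=
  (fun t => Nat.xor (Nat.xor x t) (Nat.shiftLeft t p.1)) (Nat.land (Nat.xor (Nat.shiftRight x p.1) x) p.2)

theorem testBit_swp {N : ℕ} {p : ℕ × ℕ} (h : swOK N p = true) (x i : ℕ) :
    (swp p x).testBit i = x.testBit ((sw N p).1 i) := by
  rw [sw, dif_pos h]
  change _ = x.testBit (swF p.1 p.2 i)
  have e : (swp p x).testBit i = ((x.testBit i ^^ ((x.testBit (p.1 + i) ^^ x.testBit i) && p.2.testBit i)) ^^
      (decide (p.1 ≤ i) && ((x.testBit (p.1 + (i - p.1)) ^^ x.testBit (i - p.1)) && p.2.testBit (i - p.1)))) := by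
    simp [swp]
  rw [e, swF]
  by_cases h1 : p.2.testBit i = true
  · by_cases h2 : p.1 ≤ i
    · have : p.2.testBit (i - p.1) = false := by
        by_contra h3
        have := (swOK_spec h (Bool.eq_true_of_not_eq_false h3)).1
        rw [Nat.add_sub_cancel' h2, h1] at this
        cases this
      cases x.testBit i <;> simp [h1, this]
    · cases x.testBit i <;> simp [h1, h2]
  · by_cases h2 : p.1 ≤ i
    · by_cases h3 : p.2.testBit (i - p.1) = true <;> simp [h1, h2, h3]
    · simp [h1, h2]

/-- The permutation of a letter. -/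
noncomputable def net (N : ℕ) (st : List (List (ℕ × ℕ))) (a : ℕ) : Fx N := ((nth st [] a).map (sw N)).prod

/-- A network on the bits of a number. -/
noncomputable def apN (l : List (ℕ × ℕ)) (x : ℕ) : ℕ :=
  List.rec (motive := fun _ => ℕ → ℕ) (fun x => x) (fun p _ ih x => ih (swp p x)) l x

/-- A word on the bits of a number. -/
noncomputable def apW (st : List (List (ℕ × ℕ))) (w : List ℕ) (x : ℕ) : ℕ :=
  List.rec (motive := fun _ => ℕ → ℕ) (fun x => x) (fun a _ ih x => force (apN (nth st [] a) x) ih) w x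

/-- All stages are valid. -/
noncomputable def stOK (N : ℕ) (st : List (List (ℕ × ℕ))) : Bool := allL (allL (swOK N)) st

theorem testBit_apW {N : ℕ} {st : List (List (ℕ × ℕ))} (h : stOK N st = true) (w : List ℕ) (x i : ℕ) :
    (apW st w x).testBit i = x.testBit ((ev (net N st) w).1 i) := by
  have h1 : ∀ l : List (ℕ × ℕ), (∀ p ∈ l, swOK N p = true) → ∀ x i,
      (apN l x).testBit i = x.testBit (((l.map (sw N)).prod).1 i) := by
    intro l
    induction l with
    | nil => intro _ x i; rfl
    | cons p l ih =>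
      intro hl x i
      exact (ih (fun q hq => hl q (by simp [hq])) (swp p x) i).trans (testBit_swp (hl p (by simp)) _ _)
  induction w generalizing x with
  | nil => rfl
  | cons a w ih =>
    change (force (apN (nth st [] a) x) (apW st w)).testBit i = _
    rw [force_eq, ih, h1, ev_cons]
    · rfl
    · simp only [stOK, allL_iff] at h
      rw [nth_eq]
      intro p hp
      by_cases ha : a < st.length
      · rw [List.getD_eq_getElem _ _ ha] at hp
        exact h _ (List.getElem_mem ha) p hp
      · rw [List.getD_eq_default _ _ (not_lt.mp ha)] at hp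
        cases hp

theorem apW_congr {N : ℕ} {st : List (List (ℕ × ℕ))} (h : stOK N st = true) {u v : List ℕ}
    (e : ev (net N st) u = ev (net N st) v) (x : ℕ) : apW st u x = apW st v x :=
  Nat.eq_of_testBit_eq fun i => by rw [testBit_apW h, testBit_apW h, e]

/-- Bit `i < 2 ^ k` is bit `p` of `i`. -/
noncomputable def plane (k p : ℕ) : ℕ :=
  Nat.rec (motive := fun _ => ℕ) 0 (fun j x => Bool.rec (motive := fun _ => ℕ)
    (Nat.lor x (Nat.shiftLeft x (Nat.pow 2 j)))
    (Nat.shiftLeft (Nat.sub (Nat.pow 2 (Nat.pow 2 j)) 1) (Nat.pow 2 j)) (Nat.beq j p)) k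

theorem testBit_plane (k p i : ℕ) : (plane k p).testBit i = (decide (i < 2 ^ k) && i.testBit p) := by
  induction k generalizing i with
  | zero => by_cases h : i = 0 <;> simp [plane, h]
  | succ k ih =>
    have e : 2 ^ (k + 1) = 2 ^ k + 2 ^ k := by ring
    by_cases h : k = p
    · have : plane (k + 1) p = (2 ^ 2 ^ k - 1) <<< 2 ^ k := by
        change Bool.rec (motive := fun _ => ℕ) _ _ (Nat.beq k p) = _
        rw [(beq_iff k p).mpr h]; rfl
      rw [this, ← h, Nat.testBit_shiftLeft, Nat.testBit_two_pow_sub_one]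
      by_cases h1 : i < 2 ^ k
      · simp [Nat.testBit_lt_two_pow h1, h1]
      · by_cases h2 : i < 2 ^ (k + 1)
        · rw [Nat.testBit_of_two_pow_le_and_two_pow_add_one_gt (not_lt.mp h1) h2]
          simp [h2, not_lt.mp h1, show i - 2 ^ k < 2 ^ k by omega]
        · simp [h2, show ¬ i - 2 ^ k < 2 ^ k by omega]
    · have : plane (k + 1) p = plane k p ||| plane k p <<< 2 ^ k := by
        change Bool.rec (motive := fun _ => ℕ) _ _ (Nat.beq k p) = _
        rw [(beq_false_iff k p).mpr h]; rfl
      rw [this, Nat.testBit_or, Nat.testBit_shiftLeft, ih, ih]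
      by_cases h1 : i < 2 ^ k
      · simp [h1, show i < 2 ^ (k + 1) by omega]
      · by_cases h2 : i < 2 ^ (k + 1)
        · obtain ⟨r, rfl⟩ := Nat.exists_eq_add_of_le (not_lt.mp h1)
          have hr : r < 2 ^ k := by omega
          simp only [h1, h2, Nat.add_sub_cancel_left, hr, decide_true, decide_false, Bool.false_and,
            Bool.false_or, Bool.true_and, ge_iff_le, Nat.le_add_right]
          rcases lt_or_gt_of_ne h with h | h
          · rw [Nat.testBit_lt_two_pow (hr.trans (Nat.pow_lt_pow_right (by norm_num) h)),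
              Nat.testBit_lt_two_pow (h2.trans_le (Nat.pow_le_pow_right (by norm_num) h))]
          · rw [Nat.testBit_two_pow_add_gt h]
        · simp [h1, h2, show ¬ i - 2 ^ k < 2 ^ k by omega]

/-- Two words agree on the plane `p`. -/
noncomputable def eqP (N k : ℕ) (st : List (List (ℕ × ℕ))) (u v : List ℕ) (p : ℕ) : Bool :=
  force (Nat.land (plane k p) (Nat.sub (Nat.pow 2 N) 1)) fun x => Nat.beq (apW st u x) (apW st v x)

theorem ev_eq_of_eqP {N k : ℕ} {st : List (List (ℕ × ℕ))} (h : stOK N st = true) (hN : N ≤ 2 ^ k)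
    {u v : List ℕ} (e : ∀ p, p < k → eqP N k st u v p = true) : ev (net N st) u = ev (net N st) v := by
  refine Fx.ext fun i hi => Nat.eq_of_testBit_eq fun p => ?_
  have a := Fx.lt (ev (net N st) u) hi
  have b := Fx.lt (ev (net N st) v) hi
  by_cases hp : p < k
  · have := e p hp
    rw [eqP, force_eq, beq_iff] at this
    replace this := congrArg (Nat.testBit · i) this
    simpa [testBit_apW h, testBit_plane, a, b, a.trans_le hN, b.trans_le hN] using this
  · have := Nat.pow_le_pow_right (n := 2) (by norm_num) (not_lt.mp hp)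
    rw [Nat.testBit_lt_two_pow (by omega), Nat.testBit_lt_two_pow (by omega)]

/-- `c` copies of `x` at distance `n`. -/
noncomputable def copies (n c x : ℕ) : ℕ :=
  Nat.rec (motive := fun _ => ℕ) 0 (fun _ r => Nat.lor x (Nat.shiftLeft r n)) c

end Cfsg.Agent.Mult
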