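import Cfsg.Agent.Lib.Mult.PB
import Cfsg.Agent.Lib.CG.Out

/-! Packed vectors, packed words and a collector with tails, evaluated by the kernel. -/

set_option autoImplicit false

namespace Cfsg.Agent.Mult

open Cfsg.Agent.CG Finset

/-! ### Packed vectors -/

section vec
variable {A : Type*} [AddCommGroup A] {τ : ℕ → A} {w N : ℕ}

/-- The number `x` has digits at most `B` in base `2 ^ w` and names the combination `v` of the `τ i`. -/
def VRep (τ : ℕ → A) (w N x B : ℕ) (v : A) : Prop :=
  ∃ d : ℕ → ℕ, (∀ i, d i ≤ B) ∧ x = ∑ i ∈ range N, d i * (2 ^ w) ^ i ∧ v = ∑ i ∈ range N, d i • τ i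

theorem VRep.zero (B : ℕ) : VRep τ w N 0 B 0 := ⟨fun _ => 0, by simp, by simp, by simp⟩

theorem VRep.add {x x' B B' : ℕ} {v v' : A} (h : VRep τ w N x B v) (h' : VRep τ w N x' B' v') :
    VRep τ w N (x + x') (B + B') (v + v') := by
  obtain ⟨d, h1, rfl, rfl⟩ := h
  obtain ⟨d', h1', rfl, rfl⟩ := h'
  exact ⟨fun i => d i + d' i, fun i => add_le_add (h1 i) (h1' i),
    by simp [add_mul, sum_add_distrib], by simp [add_smul, sum_add_distrib]⟩

theorem VRep.mul {x B : ℕ} {v : A} (h : VRep τ w N x B v) (c : ℕ) :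
    VRep τ w N (c * x) (c * B) (c • v) := by
  obtain ⟨d, h1, rfl, rfl⟩ := h
  exact ⟨fun i => c * d i, fun i => Nat.mul_le_mul_left _ (h1 i),
    by simp [mul_sum, mul_assoc], by simp [smul_sum, mul_smul]⟩

theorem VRep.mono {x B B' : ℕ} {v : A} (h : VRep τ w N x B v) (hB : B ≤ B') : VRep τ w N x B' v := by
  obtain ⟨d, h1, h2⟩ := h
  exact ⟨d, fun i => (h1 i).trans hB, h2⟩

theorem VRep.unit {i : ℕ} (hi : i < N) : VRep τ w N (Nat.shiftLeft 1 (Nat.mul w i)) 1 (τ i) := by
  refine ⟨fun j => if j = i then 1 else 0, fun j => by dsimp only; split_ifs <;> simp, ?_, by simp [hi]⟩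
  have : Nat.shiftLeft 1 (Nat.mul w i) = (2 ^ w) ^ i := by
    rw [← pow_mul]; exact Nat.one_shiftLeft _
  rw [this]; simp [hi]

theorem digit_sum {W : ℕ} : ∀ (k N : ℕ) (d : ℕ → ℕ), (∀ i, d i < W) → k < N →
    (∑ i ∈ range N, d i * W ^ i) / W ^ k % W = d k
  | _, 0, _, _, h => by omega
  | 0, N + 1, d, hd, _ => by
    rw [sum_range_succ']
    simp only [pow_succ, ← mul_assoc, ← sum_mul, pow_zero, mul_one, Nat.div_one]
    rw [Nat.mul_add_mod_self_right, Nat.mod_eq_of_lt (hd 0)]
  | k + 1, N + 1, d, hd, h => by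
    have hW : 0 < W := (Nat.zero_le _).trans_lt (hd 0)
    rw [sum_range_succ', pow_succ' W k, ← Nat.div_div_eq_div_mul]
    simp only [pow_succ, ← mul_assoc, ← sum_mul, pow_zero, mul_one]
    rw [add_comm, Nat.add_mul_div_right _ _ hW, Nat.div_eq_of_lt (hd 0), zero_add]
    exact digit_sum k N (fun i => d (i + 1)) (fun i => hd _) (by omega)

theorem sum_digit {W : ℕ} : ∀ (N x : ℕ), x / W ^ N = 0 →
    x = ∑ i ∈ range N, x / W ^ i % W * W ^ i
  | 0, x, h => by simpa using h
  | N + 1, x, h => by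
    rw [sum_range_succ']
    simp only [pow_succ', ← Nat.div_div_eq_div_mul, pow_zero, mul_one, Nat.div_one] at h ⊢
    have := sum_digit N (x / W) h
    simp only [mul_left_comm _ W, ← mul_sum]
    rw [← this, Nat.div_add_mod]

/-- The mask of width `w`. -/
abbrev msk (w : ℕ) : ℕ := Nat.sub (Nat.pow 2 w) 1

theorem land_msk (x w : ℕ) : Nat.land x (msk w) = x % 2 ^ w := Nat.and_two_pow_sub_one_eq_mod x w

theorem shr_eq (x k : ℕ) : Nat.shiftRight x k = x / 2 ^ k := Nat.shiftRight_eq_div_pow x k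

theorem shl_eq (x k : ℕ) : Nat.shiftLeft x k = x * 2 ^ k := Nat.shiftLeft_eq x k

theorem look_eq (w x i : ℕ) : look (msk w) x (Nat.mul w i) = x / (2 ^ w) ^ i % 2 ^ w := by
  unfold look; rw [land_msk, shr_eq, ← pow_mul]; rfl

theorem VRep.eq_sum {x B : ℕ} {v : A} (h : VRep τ w N x B v) (hB : B < 2 ^ w) :
    v = ∑ i ∈ range N, look (msk w) x (Nat.mul w i) • τ i := by
  obtain ⟨d, h1, rfl, rfl⟩ := h
  refine sum_congr rfl fun i hi => ?_
  rw [look_eq, digit_sum i N d (fun i => (h1 i).trans_lt hB) (mem_range.mp hi)]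

/-- The value of a packed vector. -/
def vval (τ : ℕ → A) (w N x : ℕ) : A := ∑ i ∈ range N, look (msk w) x (Nat.mul w i) • τ i

/-- All digits are below `q`, and there are at most `N` of them. -/
noncomputable def bdd (q w M N x : ℕ) : Bool :=
  force x fun x => band (Nat.beq (Nat.shiftRight x (Nat.mul w N)) 0)
    (allLt (fun j => blt (look M x (Nat.mul w j)) q) N)

theorem VRep.of_bdd {q x : ℕ} (h : bdd q w (msk w) N x = true) : VRep τ w N x q (vval τ w N x) := by
  unfold bdd at h
  rw [force_eq, band_eq, beq_iff, allLt_iff, shr_eq] at h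
  refine ⟨fun i => if i < N then look (msk w) x (Nat.mul w i) else 0, fun i => ?_, ?_, ?_⟩
  · dsimp only
    split_ifs with hi
    · exact ((blt_iff _ _).mp (h.2 i hi)).le
    · exact Nat.zero_le _
  · refine (sum_digit (W := 2 ^ w) N x (by rw [← pow_mul]; exact h.1)).trans
      (sum_congr rfl fun i hi => ?_)
    dsimp only
    rw [if_pos (mem_range.mp hi), look_eq]
  · exact sum_congr rfl fun i hi => by dsimp only; rw [if_pos (mem_range.mp hi)]

/-- All digits are multiples of `q`. -/
noncomputable def zer (q w M N x : ℕ) : Bool :=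
  allLt (fun j => Nat.beq (Nat.mod (look M x (Nat.mul w j)) q) 0) N

theorem mod_smul {q : ℕ} (hq : ∀ a : A, q • a = 0) (c : ℕ) (a : A) : (c % q) • a = c • a := by
  conv_rhs => rw [← Nat.mod_add_div c q, add_smul, mul_comm, mul_smul, hq, smul_zero, add_zero]

theorem VRep.eq_zero {q x B : ℕ} {v : A} (hq : ∀ a : A, q • a = 0) (h : VRep τ w N x B v)
    (hB : B < 2 ^ w) (hz : zer q w (msk w) N x = true) : v = 0 := by
  unfold zer at hz
  rw [allLt_iff] at hz
  rw [h.eq_sum hB]
  refine sum_eq_zero fun i hi => ?_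
  rw [← mod_smul hq]
  have : look (msk w) x (Nat.mul w i) % q = 0 := (beq_iff _ _).mp (hz i (mem_range.mp hi))
  rw [this, zero_smul]

/-- Add to `acc` the combination of the vectors `NF u` whose coefficients are the digits of `X` modulo `q`. -/
noncomputable def lin (q w M X : ℕ) (okf : ℕ → Bool) (NF : ℕ → ℕ) (N acc : ℕ) (k : ℕ → Bool) : Bool :=
  Nat.rec (motive := fun _ => ℕ → Bool) (fun acc => k acc)
    (fun u ih acc => force (Nat.mod (look M X (Nat.mul w u)) q) fun c =>
      Bool.rec (motive := fun _ => Bool) (band (okf u) (force (Nat.add acc (Nat.mul c (NF u))) ih))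
        (ih acc) (Nat.beq c 0)) N acc

theorem lin_sound {q w M X : ℕ} {okf : ℕ → Bool} {NF : ℕ → ℕ} {k : ℕ → Bool} : ∀ (N acc : ℕ),
    lin q w M X okf NF N acc k = true →
      (∀ u, u < N → look M X (Nat.mul w u) % q ≠ 0 → okf u = true) ∧
      k (acc + ∑ u ∈ range N, look M X (Nat.mul w u) % q * NF u) = true
  | 0, acc, h => ⟨by omega, h⟩
  | u + 1, acc, h => by
    have e : lin q w M X okf NF (u + 1) acc k = force (Nat.mod (look M X (Nat.mul w u)) q) fun c =>
      Bool.rec (motive := fun _ => Bool) (band (okf u) (force (Nat.add acc (Nat.mul c (NF u)))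
        fun a => lin q w M X okf NF u a k)) (lin q w M X okf NF u acc k) (Nat.beq c 0) := rfl
    rw [e, force_eq] at h
    rw [sum_range_succ]
    cases hb : Nat.beq (Nat.mod (look M X (Nat.mul w u)) q) 0
    · rw [hb] at h
      have h : band (okf u) (force (Nat.add acc (Nat.mul (Nat.mod (look M X (Nat.mul w u)) q) (NF u)))
        fun a => lin q w M X okf NF u a k) = true := h
      rw [band_eq, force_eq] at h
      obtain ⟨h1, h2⟩ := lin_sound u _ h.2
      refine ⟨fun v hv hc => ?_, ?_⟩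
      · rcases Nat.lt_succ_iff_lt_or_eq.mp hv with hv | rfl
        exacts [h1 v hv hc, h.1]
      · rw [add_comm (∑ _ ∈ _, _), ← add_assoc]; exact h2
    · rw [hb] at h
      have h0 : look M X (Nat.mul w u) % q = 0 := (beq_iff _ _).mp hb
      obtain ⟨h1, h2⟩ := lin_sound u _ h
      refine ⟨fun v hv hc => ?_, by rw [h0, zero_mul, add_zero]; exact h2⟩
      rcases Nat.lt_succ_iff_lt_or_eq.mp hv with hv | rfl
      exacts [h1 v hv hc, absurd h0 hc]

theorem VRep.sum {q : ℕ} (hq : 0 < q) {NF c : ℕ → ℕ} {val : ℕ → A} : ∀ (M : ℕ),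
    (∀ u, u < M → VRep τ w N (NF u) q (val u)) →
    VRep τ w N (∑ u ∈ range M, c u % q * NF u) (M * (q * q)) (∑ u ∈ range M, (c u % q) • val u)
  | 0, _ => by simpa using VRep.zero 0
  | M + 1, h => by
    rw [sum_range_succ, sum_range_succ, add_mul, one_mul]
    exact (VRep.sum hq M fun u hu => h u (by omega)).add
      (((h M (by omega)).mul _).mono (Nat.mul_le_mul_right _ (Nat.mod_lt _ hq).le))

/-- The sum of `f` over a list. -/
noncomputable def sumL (f : ℕ → ℕ) (l : List ℕ) : ℕ :=
  List.rec (motive := fun _ => ℕ) 0 (fun a _ ih => Nat.add (f a) ih) l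

theorem VRep.sumL {f : ℕ → ℕ} {val : ℕ → A} {B : ℕ} : ∀ (l : List ℕ),
    (∀ a ∈ l, VRep τ w N (f a) B (val a)) → VRep τ w N (sumL f l) (l.length * B) (l.map val).sum
  | [], _ => VRep.zero _
  | a :: l, h => by
    rw [List.length_cons, add_mul, one_mul, add_comm, List.map_cons, List.sum_cons]
    exact (h a (by simp)).add (VRep.sumL l fun b hb => h b (by simp [hb]))

end vec

/-! ### Packed words -/

section word
variable {Γ : Type*} [Group Γ] (y : ℕ → Γ) (b : ℕ)

/-- The value of a packed word, lowest digit leftmost. -/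
def evN (S : ℕ) : Γ := ev y (Nat.digits (2 ^ b) S)

/-- The value of a packed word, lowest digit rightmost. -/
def evR (C : ℕ) : Γ := ev y (Nat.digits (2 ^ b) C).reverse

variable {y b}

@[simp] theorem evN_zero : evN y b 0 = 1 := by simp [evN]
@[simp] theorem evR_zero : evR y b 0 = 1 := by simp [evR]

theorem evN_eq (hb : 0 < b) (h0 : y 0 = 1) (S : ℕ) : evN y b S = y (S % 2 ^ b) * evN y b (S / 2 ^ b) := by
  rcases Nat.eq_zero_or_pos S with rfl | hS
  · simp [h0]
  · rw [evN, Nat.digits_def' (Nat.one_lt_two_pow hb.ne') hS, ev_cons]; rfl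

theorem evR_eq (hb : 0 < b) (h0 : y 0 = 1) (C : ℕ) : evR y b C = evR y b (C / 2 ^ b) * y (C % 2 ^ b) := by
  rcases Nat.eq_zero_or_pos C with rfl | hS
  · simp [h0]
  · rw [evR, Nat.digits_def' (Nat.one_lt_two_pow hb.ne') hS, List.reverse_cons, ev_append,
      ev_singleton]; rfl

theorem evN_single (hb : 0 < b) (h0 : y 0 = 1) {a : ℕ} (ha : a < 2 ^ b) : evN y b a = y a := by
  rw [evN_eq hb h0, Nat.mod_eq_of_lt ha, Nat.div_eq_of_lt ha, evN_zero, mul_one]

theorem evN_cons (hb : 0 < b) (h0 : y 0 = 1) {a : ℕ} (ha : a < 2 ^ b) (S : ℕ) :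
    evN y b (S * 2 ^ b + a) = y a * evN y b S := by
  rw [evN_eq hb h0, Nat.mul_add_mod_self_right, Nat.mod_eq_of_lt ha, add_comm,
    Nat.add_mul_div_right _ _ (by positivity), Nat.div_eq_of_lt ha, zero_add]

theorem evR_cons (hb : 0 < b) (h0 : y 0 = 1) {a : ℕ} (ha : a < 2 ^ b) (C : ℕ) :
    evR y b (C * 2 ^ b + a) = evR y b C * y a := by
  rw [evR_eq hb h0, Nat.mul_add_mod_self_right, Nat.mod_eq_of_lt ha, add_comm,
    Nat.add_mul_div_right _ _ (by positivity), Nat.div_eq_of_lt ha, zero_add]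

theorem evN_append (hb : 0 < b) (h0 : y 0 = 1) (S : ℕ) : ∀ (l u : ℕ), u / 2 ^ (b * l) = 0 →
    evN y b (S * 2 ^ (b * l) + u) = evN y b u * evN y b S
  | 0, u, h => by
    have : u = 0 := by simpa using h
    simp [this]
  | l + 1, u, h => by
    have h1 : S * 2 ^ (b * (l + 1)) + u = (S * 2 ^ (b * l) + u / 2 ^ b) * 2 ^ b + u % 2 ^ b := by
      rw [add_mul, add_assoc, Nat.div_add_mod', mul_assoc, ← pow_add]; rfl
    rw [h1, evN_cons hb h0 (Nat.mod_lt _ (by positivity)), evN_append hb h0 S l (u / 2 ^ b) (by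
      rw [Nat.div_div_eq_div_mul, ← pow_add, add_comm]; exact h), evN_eq hb h0 u, mul_assoc]

/-- The number with `k` digits one. -/
noncomputable def repN (b k : ℕ) : ℕ :=
  Nat.rec (motive := fun _ => ℕ) 0 (fun _ ih => Nat.add (Nat.shiftLeft ih b) 1) k

theorem evR_pow (hb : 0 < b) (h0 : y 0 = 1) {i : ℕ} (hi : i < 2 ^ b) : ∀ (k C : ℕ),
    C % 2 ^ (b * k) = i * repN b k → evR y b C = evR y b (C / 2 ^ (b * k)) * y i ^ k
  | 0, C, _ => by simp
  | k + 1, C, h => by
    have e : repN b (k + 1) = repN b k * 2 ^ b + 1 := congrArg (· + 1) (shl_eq _ _)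
    have e2 : 2 ^ (b * (k + 1)) = 2 ^ b * 2 ^ (b * k) := by rw [← pow_add]; congr 1; ring
    rw [e, e2, Nat.mod_mul, mul_add, mul_one, ← mul_assoc, add_comm] at h
    have h1 : C % 2 ^ b = i := by
      have := congrArg (· % 2 ^ b) h
      simpa [Nat.mul_add_mod, Nat.mul_add_mod_self_right, Nat.mod_eq_of_lt hi] using this
    rw [h1, add_left_inj, mul_comm] at h
    rw [evR_eq hb h0, evR_pow hb h0 hi k _ (Nat.eq_of_mul_eq_mul_right (by positivity) h), h1,
      Nat.div_div_eq_div_mul, e2, pow_succ, mul_assoc]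

/-- The digits of a packed word. -/
noncomputable def digs (b mb fuel S : ℕ) : List ℕ :=
  Nat.rec (motive := fun _ => ℕ → List ℕ) (fun _ => [])
    (fun _ ih S => Bool.rec (motive := fun _ => List ℕ)
      (force (Nat.land S mb) fun a => force (Nat.shiftRight S b) fun S' => a :: ih S') []
      (Nat.beq S 0)) fuel S

theorem digs_eq (hb : 0 < b) : ∀ (fuel S : ℕ), Nat.shiftRight S (Nat.mul b fuel) = 0 →
    digs b (msk b) fuel S = Nat.digits (2 ^ b) S
  | 0, S, h => by
    have : S = 0 := h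
    rw [this]; simp [digs]
  | fuel + 1, S, h => by
    have e : digs b (msk b) (fuel + 1) S = Bool.rec (motive := fun _ => List ℕ)
      (force (Nat.land S (msk b)) fun a => force (Nat.shiftRight S b) fun S' =>
        a :: digs b (msk b) fuel S') [] (Nat.beq S 0) := rfl
    rw [e]
    cases hb' : Nat.beq S 0
    · have hS : 0 < S := Nat.pos_of_ne_zero ((beq_false_iff _ _).mp hb')
      change force _ _ = _
      rw [force_eq, force_eq, Nat.digits_def' (Nat.one_lt_two_pow hb.ne') hS, land_msk, digs_eq hb,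
        shr_eq]
      rw [shr_eq, shr_eq, Nat.div_div_eq_div_mul, ← pow_add] 
      rw [shr_eq] at h
      rw [← h]; congr 2
      exact add_comm _ _
    · rw [(beq_iff _ _).mp hb']; simp

theorem length_digs (b mb : ℕ) : ∀ (fuel S : ℕ), (digs b mb fuel S).length ≤ fuel
  | 0, _ => le_rfl
  | fuel + 1, S => by
    have e : digs b mb (fuel + 1) S = Bool.rec (motive := fun _ => List ℕ)
      (force (Nat.land S mb) fun a => force (Nat.shiftRight S b) fun S' =>
        a :: digs b mb fuel S') [] (Nat.beq S 0) := rfl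
    rw [e]
    cases Nat.beq S 0
    · change List.length (force _ _) ≤ _
      rw [force_eq, force_eq]
      exact Nat.succ_le_succ (length_digs b mb fuel _)
    · exact Nat.zero_le _

theorem map_evN {G : Type*} [Group G] (f : Γ →* G) (S : ℕ) :
    f (evN y b S) = evN (fun a => f (y a)) b S := map_ev y f _

end word

/-! ### The collector -/

/-- Collect the word `S` into the collected word `C`, adding the tails used to `V`. -/
noncomputable def col (b mb n1 T ew em pm rp bp w fuel C S V : ℕ) (k : ℕ → ℕ → Bool) : Bool :=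
  Nat.rec (motive := fun _ => ℕ → ℕ → ℕ → Bool) (fun _ _ _ => false)
    (fun _ ih C S V => Bool.rec (motive := fun _ => Bool)
      (force (Nat.land S mb) fun i => force (Nat.land C mb) fun j =>
        Bool.rec (motive := fun _ => Bool)
          (Bool.rec (motive := fun _ => Bool)
            (force (Nat.add (Nat.shiftLeft C b) i) fun C' => force (Nat.shiftRight S b) fun S' =>
              ih C' S' V)
            (band (blt i n1) (force (Nat.add (Nat.mul i n1) i) fun x =>
              force (look em T (Nat.mul ew x)) fun e => force (Nat.shiftRight C bp) fun C' =>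
              force (Nat.add (Nat.shiftLeft (Nat.shiftRight S b) (Nat.land e 1023))
                (Nat.shiftRight e 10)) fun S' =>
              force (Nat.add V (Nat.shiftLeft 1 (Nat.mul w x))) fun V' => ih C' S' V'))
            (Nat.beq (Nat.land C pm) (Nat.mul i rp)))
          (band (blt j n1) (force (Nat.add (Nat.mul j n1) i) fun x =>
            force (look em T (Nat.mul ew x)) fun e => force (Nat.shiftRight C b) fun C' =>
            force (Nat.add (Nat.shiftLeft (Nat.add (Nat.shiftLeft (Nat.shiftRight S b)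
              (Nat.land e 1023)) (Nat.shiftRight e 10)) b) i) fun S' =>
            force (Nat.add V (Nat.shiftLeft 1 (Nat.mul w x))) fun V' => ih C' S' V'))
          (blt i j))
      (k C V) (Nat.beq S 0)) fuel C S V

/-- The word stored at position `x` of the table. -/
abbrev wdOf (T ew x : ℕ) : ℕ := Nat.shiftRight (look (msk ew) T (Nat.mul ew x)) 10

/-- The bit length stored at position `x` of the table. -/
abbrev lenOf (T ew x : ℕ) : ℕ := Nat.land (look (msk ew) T (Nat.mul ew x)) 1023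

section
variable {Γ A : Type*} [Group Γ] [AddCommGroup A]

/-- A central homomorphism written as a function. -/
structure Cen (ι : A → Γ) : Prop where
  add : ∀ a b, ι (a + b) = ι a * ι b
  comm : ∀ a g, ι a * g = g * ι a

theorem Cen.zero {ι : A → Γ} (h : Cen ι) : ι 0 = 1 := by simpa using h.add 0 0

/-- What a collector does: the new vector is the old one plus the tails `t` used. -/
def ColOK (y : ℕ → Γ) (b : ℕ) (ι : A → Γ) (τ : ℕ → A) (w N fuel : ℕ)
    (cf : ℕ → ℕ → ℕ → (ℕ → ℕ → Bool) → Bool) : Prop :=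
  ∀ C S V B v k, VRep τ w N V B v → cf C S V k = true → ∃ C' V' t, VRep τ w N V' (B + fuel) (v + t) ∧
    evR y b C * evN y b S = evR y b C' * ι t ∧ k C' V' = true

theorem col_ok {y : ℕ → Γ} {b : ℕ} {ι : A → Γ} {τ : ℕ → A} {w N p n1 T ew : ℕ} (hι : Cen ι)
    (hb : 0 < b) (h0 : y 0 = 1) (hp : 0 < p) (hN : n1 * n1 ≤ N)
    (hent : ∀ j i, i ≤ j → j < n1 → lenOf T ew (j * n1 + i) % b = 0 ∧
      wdOf T ew (j * n1 + i) / 2 ^ lenOf T ew (j * n1 + i) = 0)
    (hc : ∀ j i, i < j → j < n1 →
      y j * y i = y i * evN y b (wdOf T ew (j * n1 + i)) * ι (τ (j * n1 + i)))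
    (hpw : ∀ i, i < n1 → y i ^ p = evN y b (wdOf T ew (i * n1 + i)) * ι (τ (i * n1 + i))) :
    ∀ fuel, ColOK y b ι τ w N fuel (col b (msk b) n1 T ew (msk ew) (msk (Nat.mul b (Nat.sub p 1)))
      (repN b (Nat.sub p 1)) (Nat.mul b (Nat.sub p 1)) w fuel) := by
  have happ : ∀ j i, i ≤ j → j < n1 → ∀ S, evN y b (S * 2 ^ lenOf T ew (j * n1 + i) +
      wdOf T ew (j * n1 + i)) = evN y b (wdOf T ew (j * n1 + i)) * evN y b S := by
    intro j i h1 h2 S
    obtain ⟨h3, h4⟩ := hent j i h1 h2
    obtain ⟨l, hl⟩ := Nat.dvd_of_mod_eq_zero h3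
    rw [hl] at h4 ⊢
    exact evN_append hb h0 S l _ h4
  have hlt : ∀ j i, i ≤ j → j < n1 → j * n1 + i < N := fun j i h1 h2 => by nlinarith
  intro fuel
  induction fuel with
  | zero => intro C S V B v k _ h; exact absurd h (by simp [col])
  | succ fuel ih =>
    intro C S V B v k hV h
    set cf := col b (msk b) n1 T ew (msk ew) (msk (Nat.mul b (Nat.sub p 1)))
      (repN b (Nat.sub p 1)) (Nat.mul b (Nat.sub p 1)) w fuel with hcf
    have h : Bool.rec (motive := fun _ => Bool)
      (force (Nat.land S (msk b)) fun i => force (Nat.land C (msk b)) fun j =>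
        Bool.rec (motive := fun _ => Bool)
          (Bool.rec (motive := fun _ => Bool)
            (force (Nat.add (Nat.shiftLeft C b) i) fun C' => force (Nat.shiftRight S b) fun S' =>
              cf C' S' V k)
            (band (blt i n1) (force (Nat.add (Nat.mul i n1) i) fun x =>
              force (look (msk ew) T (Nat.mul ew x)) fun e =>
              force (Nat.shiftRight C (Nat.mul b (Nat.sub p 1))) fun C' =>
              force (Nat.add (Nat.shiftLeft (Nat.shiftRight S b) (Nat.land e 1023))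
                (Nat.shiftRight e 10)) fun S' =>
              force (Nat.add V (Nat.shiftLeft 1 (Nat.mul w x))) fun V' => cf C' S' V' k))
            (Nat.beq (Nat.land C (msk (Nat.mul b (Nat.sub p 1)))) (Nat.mul i (repN b (Nat.sub p 1)))))
          (band (blt j n1) (force (Nat.add (Nat.mul j n1) i) fun x =>
            force (look (msk ew) T (Nat.mul ew x)) fun e => force (Nat.shiftRight C b) fun C' =>
            force (Nat.add (Nat.shiftLeft (Nat.add (Nat.shiftLeft (Nat.shiftRight S b)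
              (Nat.land e 1023)) (Nat.shiftRight e 10)) b) i) fun S' =>
            force (Nat.add V (Nat.shiftLeft 1 (Nat.mul w x))) fun V' => cf C' S' V' k))
          (blt i j))
      (k C V) (Nat.beq S 0) = true := h
    simp only [force_eq] at h
    cases hS : Nat.beq S 0
    swap
    · rw [hS] at h
      exact ⟨C, V, 0, by rw [add_zero]; exact hV.mono (Nat.le_add_right _ _),
        by rw [(beq_iff _ _).mp hS, evN_zero, hι.zero], h⟩
    rw [hS] at h
    have hi : S % 2 ^ b < 2 ^ b := Nat.mod_lt _ (by positivity)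
    simp only [land_msk S, land_msk C, shr_eq S, shr_eq C, shl_eq C] at h
    rw [evN_eq hb h0 S]
    cases hij : blt (S % 2 ^ b) (C % 2 ^ b)
    · rw [hij] at h
      cases hpp : Nat.beq (C % 2 ^ Nat.mul b (Nat.sub p 1)) (Nat.mul (S % 2 ^ b) (repN b (Nat.sub p 1)))
      · rw [hpp] at h
        obtain ⟨C', V', t, h1, h2, h3⟩ := ih _ _ _ _ _ _ hV h
        refine ⟨C', V', t, h1.mono (by omega), ?_, h3⟩
        rw [← h2, ← mul_assoc]
        exact congrArg (· * _) (evR_cons hb h0 hi C).symm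
      · rw [hpp] at h
        obtain ⟨h4, h⟩ := (band_eq _ _).mp h
        rw [blt_iff] at h4
        obtain ⟨C', V', t, h1, h2, h3⟩ := ih _ _ _ _ _ _ (hV.add (VRep.unit (hlt _ _ le_rfl h4))) h
        refine ⟨C', V', τ (S % 2 ^ b * n1 + S % 2 ^ b) + t, ?_, ?_, h3⟩
        · rw [← add_assoc v]; exact h1.mono (by omega)
        · rw [shl_eq] at h2
          have h5 := happ _ _ le_rfl h4 (S / 2 ^ b)
          have h6 := evR_pow hb h0 hi (p - 1) C ((beq_iff _ _).mp hpp)
          have h7 := hpw _ h4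
          rw [show y (S % 2 ^ b) ^ p = y (S % 2 ^ b) ^ (p - 1) * y (S % 2 ^ b) by
            rw [← pow_succ, Nat.sub_add_cancel hp]] at h7
          rw [add_comm, hι.add, ← mul_assoc (evR y b C'), ← h2, h6, mul_assoc, ← mul_assoc (_ ^ _), h7,
            mul_assoc, mul_assoc, hι.comm, ← mul_assoc (evN _ _ _), ← h5]
          rfl
    · rw [hij] at h
      obtain ⟨h4, h⟩ := (band_eq _ _).mp h
      rw [blt_iff] at h4 hij
      obtain ⟨C', V', t, h1, h2, h3⟩ := ih _ _ _ _ _ _ (hV.add (VRep.unit (hlt _ _ hij.le h4))) h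
      refine ⟨C', V', τ (C % 2 ^ b * n1 + S % 2 ^ b) + t, ?_, ?_, h3⟩
      · rw [← add_assoc v]; exact h1.mono (by omega)
      · rw [shl_eq, shl_eq] at h2
        have h5 := happ _ _ hij.le h4 (S / 2 ^ b)
        have h6 := evN_cons hb h0 hi (S / 2 ^ b * 2 ^ lenOf T ew (C % 2 ^ b * n1 + S % 2 ^ b) +
          wdOf T ew (C % 2 ^ b * n1 + S % 2 ^ b))
        rw [h5] at h6
        rw [add_comm, hι.add, ← mul_assoc (evR y b C'), ← h2, evR_eq hb h0 C, mul_assoc,
          ← mul_assoc (y _), hc _ _ hij h4, mul_assoc, mul_assoc, mul_assoc, hι.comm,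
          ← mul_assoc (evN _ _ _), ← mul_assoc (y _), ← h6]
        rfl

/-- Collect a list of words, one after the other. -/
noncomputable def colL (cf : ℕ → ℕ → ℕ → (ℕ → ℕ → Bool) → Bool) (ws : List ℕ) (C V : ℕ)
    (k : ℕ → ℕ → Bool) : Bool :=
  List.rec (motive := fun _ => ℕ → ℕ → Bool) (fun C V => k C V)
    (fun u _ ih C V => force u fun u => cf C u V ih) ws C V

theorem ColOK.colL {y : ℕ → Γ} {b : ℕ} {ι : A → Γ} {τ : ℕ → A} {w N fuel : ℕ} (hι : Cen ι)
    {cf : ℕ → ℕ → ℕ → (ℕ → ℕ → Bool) → Bool} (h : ColOK y b ι τ w N fuel cf) {k : ℕ → ℕ → Bool} :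
    ∀ (ws : List ℕ) (C V B : ℕ) (v : A), VRep τ w N V B v → colL cf ws C V k = true →
      ∃ C' V' t, VRep τ w N V' (B + ws.length * fuel) (v + t) ∧
        evR y b C * ev (evN y b) ws = evR y b C' * ι t ∧ k C' V' = true
  | [], C, V, B, v, hV, hk => ⟨C, V, 0, by simpa using hV, by simp [hι.zero], hk⟩
  | u :: ws, C, V, B, v, hV, hk => by
    have hk : (force u fun u => cf C u V fun C V => Mult.colL cf ws C V k) = true := hk
    rw [force_eq] at hk
    obtain ⟨C1, V1, t1, h1, h2, h3⟩ := h _ _ _ _ _ _ hV hk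
    obtain ⟨C2, V2, t2, h4, h5, h6⟩ := ColOK.colL hι h ws _ _ _ _ h1 h3
    refine ⟨C2, V2, t1 + t2, ?_, ?_, h6⟩
    · rw [← add_assoc v]
      exact h4.mono (by rw [List.length_cons]; nlinarith)
    · rw [ev_cons, ← mul_assoc, h2, mul_assoc, hι.comm, ← mul_assoc, h5, add_comm, hι.add, mul_assoc]

end

end Cfsg.Agent.Mult
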