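import Cfsg.Agent.Lib.Mult.Col

/-! The certificate checker for the `p`-part of a Schur multiplier: a power-commutator presentation of a Sylow
subgroup with unknown central tails, linear relations among the tails from overlaps and from fusion. -/

set_option autoImplicit false

namespace Cfsg.Agent.Mult

open Cfsg.Agent.CG Finset

/-- A relation among the tails: kind `1` is the overlap of the word `a` with the rule `(b, c)`, the other kinds
are the equation `W = W'` among the generators of fusion number `a`. Kind `0` marks the parameter number `a`. -/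
structure Desc where
  kind : ℕ
  a : ℕ
  b : ℕ
  c : ℕ
  W : List ℕ
  W' : List ℕ

/-- The certificate. -/
structure Dat where
  p : ℕ
  q : ℕ
  n1 : ℕ
  b : ℕ
  fl : ℕ
  ew : ℕ
  T : ℕ
  w : ℕ
  fuel : ℕ
  nf : ℕ
  cm : ℕ
  q1 : ℕ → ℕ
  q2 : ℕ → ℕ
  NV : ℕ
  d : ℕ
  w2 : ℕ
  NF : ℕ → ℕ
  tm : ℕ → ℕ
  TM : ℕ
  par : ℕ → ℕ
  ds : ℕ → Desc
  r : ℕ
  s0 : ℕ
  gv : ℕ → ℕ
  rd : ℕ → Desc
  av : ℕ → ℕ
  mw : ℕ
  mu : ℕ → ℕ
  ms : List ℕ
  om : ℕ → ℕ

/-- Left side of a rule. -/
noncomputable def lhsL (p j i : ℕ) : List ℕ :=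
  Bool.rec (motive := fun _ => List ℕ) (repL p i) [j, i] (blt i j)

/-- Right side of a rule, with the packed word `u`. -/
noncomputable def rhsL (u j i : ℕ) : List ℕ := Bool.rec (motive := fun _ => List ℕ) [u] [i, u] (blt i j)

/-- Map by the raw recursor. -/
noncomputable def mapL (f : ℕ → ℕ) (l : List ℕ) : List ℕ :=
  List.rec (motive := fun _ => List ℕ) [] (fun a _ ih => f a :: ih) l

theorem mapL_eq (f : ℕ → ℕ) (l : List ℕ) : mapL f l = l.map f := by
  induction l with
  | nil => rfl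
  | cons a l ih => exact congrArg (List.cons (f a)) ih

/-- Length by the raw recursor. -/
noncomputable def lenL (l : List ℕ) : ℕ := List.rec (motive := fun _ => ℕ) 0 (fun _ _ ih => Nat.succ ih) l

theorem lenL_eq (l : List ℕ) : lenL l = l.length := by
  induction l with
  | nil => rfl
  | cons a l ih => exact congrArg Nat.succ ih

theorem length_repL (k a : ℕ) : (repL k a).length = k := by
  induction k with
  | zero => rfl
  | succ k ih => exact congrArg Nat.succ ih

theorem mem_repL {k a c : ℕ} (h : c ∈ repL k a) : c = a := by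
  induction k with
  | zero => simp [repL] at h
  | succ k ih =>
    rcases List.mem_cons.mp h with h | h
    exacts [h, ih h]

namespace Dat
variable (D : Dat)

/-- The collector of the certificate. -/
noncomputable def withCol (k : (ℕ → ℕ → ℕ → (ℕ → ℕ → Bool) → Bool) → Bool) : Bool :=
  force D.b fun b => force (msk b) fun mb => force D.n1 fun n1 => force D.ew fun ew =>
    force (msk ew) fun em => force (Nat.mul b (Nat.sub D.p 1)) fun bp => force (msk bp) fun pm =>
    force (repN b (Nat.sub D.p 1)) fun rp => force D.w fun w => force D.fuel fun fuel =>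
      k (col b mb n1 D.T ew em pm rp bp w fuel)

/-- The overlap relation. -/
noncomputable def relA (cf : ℕ → ℕ → ℕ → (ℕ → ℕ → Bool) → Bool) (u j i : ℕ) (k : ℕ → ℕ → Bool) : Bool :=
  band (Nat.ble i j) (band (blt j D.n1) (force (Nat.add (Nat.mul j D.n1) i) fun x =>
    colL cf (u :: lhsL D.p j i) 0 0 fun C1 V1 =>
      colL cf (u :: rhsL (wdOf D.T D.ew x) j i) 0 (Nat.shiftLeft 1 (Nat.mul D.w x)) fun C2 V2 =>
        band (Nat.beq C1 C2) (k V1 V2)))

/-- The tails of the fusion relations used by a word. -/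
noncomputable def cvec (o : ℕ) (W : List ℕ) : ℕ :=
  sumL (fun i => Nat.shiftLeft 1 (Nat.mul D.w (Nat.add (Nat.mul D.n1 D.n1) (Nat.add o i)))) W

/-- The fusion relation. -/
noncomputable def relB (cf : ℕ → ℕ → ℕ → (ℕ → ℕ → Bool) → Bool) (f : ℕ) (W W' : List ℕ)
    (k : ℕ → ℕ → Bool) : Bool :=
  band (blt f D.nf) (band (allL (fun i => blt i D.cm) W) (band (allL (fun i => blt i D.cm) W')
    (force (Nat.mul f D.cm) fun o =>
      colL cf (mapL (fun i => D.q1 (Nat.add o i)) W) 0 0 fun C1 V1 =>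
      colL cf (mapL (fun i => D.q1 (Nat.add o i)) W') 0 0 fun C2 V2 => band (Nat.beq C1 C2)
      (colL cf (mapL (fun i => D.q2 (Nat.add o i)) W) 0 (Nat.add V2 (D.cvec o W)) fun C3 V3 =>
      colL cf (mapL (fun i => D.q2 (Nat.add o i)) W') 0 (Nat.add V1 (D.cvec o W')) fun C4 V4 =>
        band (Nat.beq C3 C4) (k V3 V4)))))

/-- The bound for the digits produced by a relation. -/
noncomputable def bnd (e : Desc) : ℕ :=
  Nat.mul (Nat.add (Nat.add (lenL e.W) (lenL e.W')) (Nat.add D.p 3)) (Nat.succ D.fuel)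

/-- The relation named by a descriptor, as one vector with value zero. -/
noncomputable def rel (cf : ℕ → ℕ → ℕ → (ℕ → ℕ → Bool) → Bool) (e : Desc) (k : ℕ → Bool) : Bool :=
  band (blt (Nat.mul D.q (D.bnd e)) (Nat.pow 2 D.w)) (Bool.rec (motive := fun _ => Bool)
    (D.relB cf e.a e.W e.W' fun L R => force (Nat.add L (Nat.mul (Nat.sub D.q 1) R)) k)
    (D.relA cf e.a e.b e.c fun L R => force (Nat.add L (Nat.mul (Nat.sub D.q 1) R)) k)
    (Nat.beq e.kind 1))

/-- The check that the normal form of the variable `v` is correct. -/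
noncomputable def chkVar (cf : ℕ → ℕ → ℕ → (ℕ → ℕ → Bool) → Bool) (q w M w2 M2 d NV v : ℕ) : Bool :=
  band (bdd q w2 M2 d (D.NF v)) (force (D.tm v) fun t => bor (Nat.ble D.TM t)
    (Bool.rec (motive := fun _ => Bool)
      (D.rel cf (D.ds v) fun X => band (Nat.beq (Nat.gcd (look M X (Nat.mul w v)) q) 1)
        (lin q w M X (fun u => bor (blt (D.tm u) t) (Nat.beq u v)) D.NF NV 0 fun acc =>
          zer q w2 M2 d acc))
      (band (blt (D.ds v).a d) (band (Nat.beq (D.par (D.ds v).a) v)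
        (Nat.beq (D.NF v) (Nat.shiftLeft 1 (Nat.mul w2 (D.ds v).a)))))
      (Nat.beq (D.ds v).kind 0)))

/-- The check of the residual relation number `s`. -/
noncomputable def chkRho (cf : ℕ → ℕ → ℕ → (ℕ → ℕ → Bool) → Bool) (q w M w2 M2 d NV s : ℕ) : Bool :=
  band (bdd q w2 M2 d (D.gv s)) (bor (blt s D.s0) (D.rel cf (D.rd s) fun X =>
    lin q w M X (fun u => blt (D.tm u) D.TM) D.NF NV (Nat.mul (Nat.sub q 1) (D.gv s)) fun acc =>
      zer q w2 M2 d acc))

/-- Bind the scalars. -/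
noncomputable def withNum (k : ℕ → ℕ → ℕ → ℕ → ℕ → ℕ → ℕ → Bool) : Bool :=
  force D.q fun q => force D.w fun w => force (msk w) fun M => force D.w2 fun w2 =>
    force (msk w2) fun M2 => force D.d fun d => force D.NV fun NV => k q w M w2 M2 d NV

/-- The variables `lo ≤ v < lo + cnt`. -/
noncomputable def chkVars (lo cnt : ℕ) : Bool :=
  D.withCol fun cf => D.withNum fun q w M w2 M2 d NV => allRange (D.chkVar cf q w M w2 M2 d NV) lo cnt

/-- The residual relations `lo ≤ s < lo + cnt`. -/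
noncomputable def chkRhos (lo cnt : ℕ) : Bool :=
  D.withCol fun cf => D.withNum fun q w M w2 M2 d NV => allRange (D.chkRho cf q w M w2 M2 d NV) lo cnt

/-- The check of the table entry `x`: format, letters, and the corrected tail lies in the small subgroup. -/
noncomputable def chkEnt (q w2 M2 d x : ℕ) : Bool :=
  force (Nat.div x D.n1) fun j => force (Nat.mod x D.n1) fun i => bor (blt j i)
    (force (wdOf D.T D.ew x) fun u => force (lenOf D.T D.ew x) fun l =>
      band (Nat.beq (Nat.mod l D.b) 0) (band (Nat.beq (Nat.shiftRight u l) 0)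
      (band (Nat.beq (Nat.shiftRight u (Nat.mul D.b D.fl)) 0) (bor (Nat.beq i 0)
        (band (allL (fun a => band (blt i a) (blt a D.n1)) (digs D.b (msk D.b) D.fl u))
        (band (blt (D.tm x) D.TM)
          (lin q D.mw (msk D.mw) (D.mu x) (fun _ => true) D.gv D.r
            (Nat.add (Nat.add (D.NF x) (Bool.rec (motive := fun _ => ℕ) (Nat.mul D.p (D.av i)) (D.av j)
              (blt i j))) (Nat.mul (Nat.sub q 1) (sumL D.av (digs D.b (msk D.b) D.fl u))))
            fun acc => zer q w2 M2 d acc)))))))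

/-- The table entries `lo ≤ x < lo + cnt`. -/
noncomputable def chkEnts (lo cnt : ℕ) : Bool :=
  D.withNum fun q _ _ w2 M2 d _ => allRange (D.chkEnt q w2 M2 d) lo cnt

/-- The orders of the generators, and the scalars. -/
noncomputable def chkHead : Bool :=
  D.withNum fun q _ _ w2 M2 d NV =>
    band (blt 0 D.b) (band (Nat.ble D.n1 (Nat.pow 2 D.b)) (band (blt 0 D.n1)
    (band (Nat.beq NV (Nat.add (Nat.mul D.n1 D.n1) (Nat.mul D.nf D.cm)))
    (band (blt (Nat.mul (Nat.mul q q) (Nat.add (Nat.add NV D.r) (Nat.add (Nat.add D.fl D.p) 2)))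
      (Nat.pow 2 w2))
    (band (Nat.beq (lenL D.ms) D.s0) (band (Nat.ble D.s0 D.r)
    (band (allLt (fun l => bdd q w2 M2 d (D.av l)) D.n1)
    (allLt (fun s => band (Nat.ble (nth D.ms 0 s) q)
      (lin q D.mw (msk D.mw) (D.om s) (fun u => Nat.ble D.s0 u) D.gv D.r
        (Nat.mul (nth D.ms 0 s) (D.gv s)) fun acc => zer q w2 M2 d acc)) D.s0))))))))

variable {D}

theorem chkVars_append {lo c e : ℕ} (h1 : D.chkVars lo c = true) (h2 : D.chkVars (lo + c) e = true) :
    D.chkVars lo (c + e) = true := by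
  simp only [chkVars, withCol, withNum, force_eq] at *
  exact allRange_append h1 h2

theorem chkRhos_append {lo c e : ℕ} (h1 : D.chkRhos lo c = true) (h2 : D.chkRhos (lo + c) e = true) :
    D.chkRhos lo (c + e) = true := by
  simp only [chkRhos, withCol, withNum, force_eq] at *
  exact allRange_append h1 h2

theorem chkEnts_append {lo c e : ℕ} (h1 : D.chkEnts lo c = true) (h2 : D.chkEnts (lo + c) e = true) :
    D.chkEnts lo (c + e) = true := by
  simp only [chkEnts, withNum, force_eq] at *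
  exact allRange_append h1 h2

section sound
variable {Γ A : Type*} [Group Γ] [AddCommGroup A] {y : ℕ → Γ} {ι : A → Γ} {τ : ℕ → A}
  {cf : ℕ → ℕ → ℕ → (ℕ → ℕ → Bool) → Bool}

/-- The relations with tails. -/
structure Tails (D : Dat) (y : ℕ → Γ) (ι : A → Γ) (τ : ℕ → A) : Prop where
  cen : Cen ι
  inj : Function.Injective ι
  nv : D.NV = D.n1 * D.n1 + D.nf * D.cm
  pc : ∀ j i, i ≤ j → j < D.n1 → ev (evN y D.b) (lhsL D.p j i) =
    ev (evN y D.b) (rhsL (wdOf D.T D.ew (j * D.n1 + i)) j i) * ι (τ (j * D.n1 + i))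
  fus : ∀ f i, f < D.nf → i < D.cm → y (D.n1 + f) * evN y D.b (D.q1 (f * D.cm + i)) =
    evN y D.b (D.q2 (f * D.cm + i)) * y (D.n1 + f) * ι (τ (D.n1 * D.n1 + (f * D.cm + i)))

theorem relA_sound (hT : Tails D y ι τ) (hc : ColOK y D.b ι τ D.w D.NV D.fuel cf) {u j i : ℕ}
    {k : ℕ → ℕ → Bool} (h : D.relA cf u j i k = true) : ∃ L R v,
      VRep τ D.w D.NV L ((D.p + 3) * (D.fuel + 1)) v ∧ VRep τ D.w D.NV R ((D.p + 3) * (D.fuel + 1)) v ∧
      k L R = true := by
  unfold relA at h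
  rw [band_eq, band_eq, ble_iff, blt_iff, force_eq] at h
  obtain ⟨h1, h2, h3⟩ := h
  have hx : j * D.n1 + i < D.NV := by rw [hT.nv]; nlinarith
  obtain ⟨C1, V1, t1, a1, a2, a3⟩ := hc.colL hT.cen _ _ _ _ _ (VRep.zero 0) h3
  obtain ⟨C2, V2, t2, b1, b2, b3⟩ := hc.colL hT.cen _ _ _ _ _ (VRep.unit hx) a3
  rw [band_eq, beq_iff] at b3
  have e1 : (lhsL D.p j i).length ≤ D.p + 2 := by
    unfold lhsL; cases blt i j
    · exact (length_repL _ _).le.trans (by omega)
    · exact Nat.le_add_left _ _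
  have e2 : ∀ u, (rhsL u j i).length ≤ 2 := fun u => by unfold rhsL; cases blt i j <;> simp
  refine ⟨V1, V2, t1, ?_, ?_, b3.2⟩
  · rw [zero_add t1, zero_add, List.length_cons] at a1
    exact a1.mono (by nlinarith)
  · have : τ (j * D.n1 + i) + t2 = t1 := by
      apply hT.inj
      rw [evR_zero, one_mul, ev_cons] at a2 b2
      rw [hT.pc j i h1 h2, ← mul_assoc] at a2
      have b2' : evN y D.b u * ev (evN y D.b) (rhsL (wdOf D.T D.ew (j * D.n1 + i)) j i) =
        evR y D.b C2 * ι t2 := b2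
      rw [b2', b3.1, mul_assoc, mul_right_inj] at a2
      rw [add_comm, hT.cen.add, a2]
    rw [← this]
    rw [List.length_cons] at b1
    refine b1.mono ?_
    have := e2 (wdOf D.T D.ew (Nat.add (Nat.mul j D.n1) i))
    nlinarith

theorem fus_word (hT : Tails D y ι τ) {f : ℕ} (hf : f < D.nf) : ∀ W : List ℕ, (∀ i ∈ W, i < D.cm) →
    y (D.n1 + f) * ev (evN y D.b) (W.map fun i => D.q1 (f * D.cm + i)) =
      ev (evN y D.b) (W.map fun i => D.q2 (f * D.cm + i)) * y (D.n1 + f) *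
        ι (W.map fun i => τ (D.n1 * D.n1 + (f * D.cm + i))).sum
  | [], _ => by simp [hT.cen.zero]
  | i :: W, h => by
    simp only [List.map_cons, ev_cons, List.sum_cons]
    rw [← mul_assoc, hT.fus f i hf (h i (by simp)), mul_assoc, hT.cen.comm, mul_assoc,
      ← mul_assoc (y _), fus_word hT hf W fun a ha => h a (by simp [ha]), add_comm (τ _), hT.cen.add]
    simp only [mul_assoc]

theorem relB_sound (hT : Tails D y ι τ) (hc : ColOK y D.b ι τ D.w D.NV D.fuel cf) {f : ℕ}
    {W W' : List ℕ} {k : ℕ → ℕ → Bool} (h : D.relB cf f W W' k = true) : ∃ L R v,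
      VRep τ D.w D.NV L ((W.length + W'.length) * (D.fuel + 1)) v ∧
      VRep τ D.w D.NV R ((W.length + W'.length) * (D.fuel + 1)) v ∧ k L R = true := by
  unfold relB at h
  rw [band_eq, band_eq, band_eq, blt_iff, allL_iff, allL_iff, force_eq] at h
  simp only [blt_iff, mapL_eq] at h
  obtain ⟨hf, hW, hW', h3⟩ := h
  have hcv : ∀ W : List ℕ, (∀ i ∈ W, i < D.cm) → VRep τ D.w D.NV (D.cvec (Nat.mul f D.cm) W)
      (W.length * 1) (W.map fun i => τ (D.n1 * D.n1 + (f * D.cm + i))).sum := fun W hW =>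
    VRep.sumL W fun i hi => VRep.unit (by
      have := hW i hi
      change D.n1 * D.n1 + (f * D.cm + i) < _
      rw [hT.nv]; nlinarith)
  obtain ⟨C1, V1, t1, a1, a2, a3⟩ := hc.colL hT.cen _ _ _ _ _ (VRep.zero 0) h3
  obtain ⟨C2, V2, t2, b1, b2, b3⟩ := hc.colL hT.cen _ _ _ _ _ (VRep.zero 0) a3
  rw [band_eq, beq_iff] at b3
  obtain ⟨C3, V3, t3, c1, c2, c3⟩ := hc.colL hT.cen _ _ _ _ _ (b1.add (hcv W hW)) b3.2
  obtain ⟨C4, V4, t4, d1, d2, d3⟩ := hc.colL hT.cen _ _ _ _ _ (a1.add (hcv W' hW')) c3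
  rw [band_eq, beq_iff] at d3
  rw [List.length_map] at a1 b1 c1 d1
  refine ⟨V3, V4, _, c1.mono (by rw [List.length_map]; nlinarith), ?_, d3.2⟩
  have e1 := fus_word hT hf W hW
  have e2 := fus_word hT hf W' hW'
  rw [evR_zero, one_mul] at a2 b2 c2 d2
  change ev _ (W.map fun i => D.q1 (f * D.cm + i)) = _ at a2
  change ev _ (W'.map fun i => D.q1 (f * D.cm + i)) = _ at b2
  change ev _ (W.map fun i => D.q2 (f * D.cm + i)) = _ at c2
  change ev _ (W'.map fun i => D.q2 (f * D.cm + i)) = _ at d2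
  rw [a2, c2] at e1
  rw [b2, d2, ← b3.1, ← d3.1] at e2
  generalize (W.map fun i => τ (D.n1 * D.n1 + (f * D.cm + i))).sum = s at *
  generalize (W'.map fun i => τ (D.n1 * D.n1 + (f * D.cm + i))).sum = s' at *
  have : 0 + t2 + s + t3 = 0 + t1 + s' + t4 := by
    apply hT.inj
    have e3 : y (D.n1 + f) * evR y D.b C1 * ι (t1 + t2) =
        evR y D.b C3 * y (D.n1 + f) * ι (0 + t2 + s + t3) := by
      rw [hT.cen.add, ← mul_assoc, mul_assoc (y _), e1, mul_assoc _ (ι t3), hT.cen.comm t3,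
        show 0 + t2 + s + t3 = t3 + (s + t2) by abel, hT.cen.add, hT.cen.add]
      simp only [mul_assoc]
    have e4 : y (D.n1 + f) * evR y D.b C1 * ι (t1 + t2) =
        evR y D.b C3 * y (D.n1 + f) * ι (0 + t1 + s' + t4) := by
      rw [add_comm t1, hT.cen.add, ← mul_assoc, mul_assoc (y _), e2, mul_assoc _ (ι t4),
        hT.cen.comm t4, show 0 + t1 + s' + t4 = t4 + (s' + t1) by abel, hT.cen.add, hT.cen.add]
      simp only [mul_assoc]
    exact mul_left_cancel (e3.symm.trans e4)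
  rw [this]
  exact d1.mono (by rw [List.length_map]; nlinarith)

theorem rel_sound (hT : Tails D y ι τ) (hc : ColOK y D.b ι τ D.w D.NV D.fuel cf) (hq0 : 0 < D.q)
    (hq : ∀ a : A, D.q • a = 0) {e : Desc} {k : ℕ → Bool} (h : D.rel cf e k = true) :
    ∃ X, ∑ u ∈ range D.NV, (look (msk D.w) X (Nat.mul D.w u) % D.q) • τ u = 0 ∧ k X = true := by
  unfold rel at h
  rw [band_eq, blt_iff] at h
  obtain ⟨hb, h⟩ := h
  have key : ∀ L R v, VRep τ D.w D.NV L (D.bnd e) v → VRep τ D.w D.NV R (D.bnd e) v →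
      (force (Nat.add L (Nat.mul (Nat.sub D.q 1) R)) k) = true →
      ∃ X, ∑ u ∈ range D.NV, (look (msk D.w) X (Nat.mul D.w u) % D.q) • τ u = 0 ∧ k X = true := by
    intro L R v h1 h2 h3
    rw [force_eq] at h3
    refine ⟨_, ?_, h3⟩
    have h4 := (h1.add (h2.mul (D.q - 1))).eq_sum (lt_of_eq_of_lt (by
      change _ = D.q * D.bnd e
      conv_rhs => rw [← Nat.sub_add_cancel (show 1 ≤ D.q from hq0), add_mul, one_mul, add_comm]) hb)
    simp only [mod_smul hq]
    refine h4.symm.trans ?_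
    rw [← hq v]
    conv_rhs => rw [← Nat.sub_add_cancel (show 1 ≤ D.q from hq0), add_smul, one_smul, add_comm]
  have hbnd : D.bnd e = (e.W.length + e.W'.length + (D.p + 3)) * (D.fuel + 1) := by
    unfold bnd; rw [lenL_eq, lenL_eq]; rfl
  cases hk : Nat.beq e.kind 1 <;> rw [hk] at h
  · obtain ⟨L, R, v, h1, h2, h3⟩ := relB_sound hT hc h
    exact key L R v (h1.mono (by rw [hbnd]; nlinarith)) (h2.mono (by rw [hbnd]; nlinarith)) h3
  · obtain ⟨L, R, v, h1, h2, h3⟩ := relA_sound hT hc h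
    exact key L R v (h1.mono (by rw [hbnd]; nlinarith)) (h2.mono (by rw [hbnd]; nlinarith)) h3

/-- The value of a small vector. -/
noncomputable abbrev val (D : Dat) (τ : ℕ → A) (x : ℕ) : A := vval (fun j => τ (D.par j)) D.w2 D.d x

/-- A linear combination that vanishes modulo `q`. -/
theorem lin_zero (hq0 : 0 < D.q) (hq : ∀ a : A, D.q • a = 0) {w M X N acc B : ℕ} {okf : ℕ → Bool}
    {NF : ℕ → ℕ} {v : A} (hNF : ∀ u, u < N → bdd D.q D.w2 (msk D.w2) D.d (NF u) = true)
    (hv : VRep (fun j => τ (D.par j)) D.w2 D.d acc B v) (hB : B + N * (D.q * D.q) < 2 ^ D.w2)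
    (h : lin D.q w M X okf NF N acc (fun acc => zer D.q D.w2 (msk D.w2) D.d acc) = true) :
    (∀ u, u < N → look M X (Nat.mul w u) % D.q ≠ 0 → okf u = true) ∧
      v + ∑ u ∈ range N, (look M X (Nat.mul w u) % D.q) • D.val τ (NF u) = 0 := by
  obtain ⟨h1, h2⟩ := lin_sound _ _ h
  exact ⟨h1, (hv.add (VRep.sum hq0 N fun u hu => VRep.of_bdd (hNF u hu))).eq_zero hq hB h2⟩

theorem vars_sound (hT : Tails D y ι τ) (hc : ColOK y D.b ι τ D.w D.NV D.fuel cf) (hq1 : 1 < D.q)
    (hq : ∀ a : A, D.q • a = 0) (hB : D.NV * (D.q * D.q) < 2 ^ D.w2)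
    (h : ∀ v, v < D.NV → D.chkVar cf D.q D.w (msk D.w) D.w2 (msk D.w2) D.d D.NV v = true) :
    ∀ t v, v < D.NV → D.tm v = t → t < D.TM → D.val τ (D.NF v) = τ v := by
  have hbd : ∀ v, v < D.NV → bdd D.q D.w2 (msk D.w2) D.d (D.NF v) = true :=
    fun v hv => ((band_eq _ _).mp (h v hv)).1
  intro t
  induction t using Nat.strong_induction_on with
  | _ t ih =>
    intro v hv ht hTM
    have h1 := ((band_eq _ _).mp (h v hv)).2
    rw [force_eq, bor_eq, ble_iff, ht] at h1
    have h1 := h1.resolve_left (by omega)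
    cases hk : Nat.beq (D.ds v).kind 0 <;> rw [hk] at h1
    · obtain ⟨X, hX, h2⟩ := rel_sound hT hc (by omega) hq h1
      rw [band_eq, beq_iff] at h2
      obtain ⟨h3, h4⟩ := lin_zero (τ := τ) (by omega) hq hbd (VRep.zero 0) (by omega) h2.2
      rw [zero_add, ← hX, ← sub_eq_zero, ← sum_sub_distrib, sum_eq_single v] at h4
      · rw [← smul_sub, mod_smul hq] at h4
        have h5 := addOrderOf_dvd_of_nsmul_eq_zero h4
        have h6 := addOrderOf_dvd_of_nsmul_eq_zero (hq (D.val τ (D.NF v) - τ v))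
        rw [← sub_eq_zero, ← AddMonoid.addOrderOf_eq_one_iff]
        exact Nat.eq_one_of_dvd_coprimes h2.1 h5 h6
      · intro u hu huv
        by_cases h0 : look (msk D.w) X (Nat.mul D.w u) % D.q = 0
        · rw [h0]; simp
        · have := h3 u (mem_range.mp hu) h0
          rw [bor_eq, blt_iff, beq_iff] at this
          have h5 := this.resolve_right huv
          rw [ih _ h5 u (mem_range.mp hu) rfl (by omega), sub_self]
      · intro hn; exact absurd (mem_range.mpr hv) hn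
    · obtain ⟨h2, h3⟩ := (band_eq _ _).mp h1
      rw [band_eq, beq_iff, beq_iff] at h3
      rw [blt_iff] at h2
      have h4 := (VRep.unit (τ := fun j => τ (D.par j)) (w := D.w2) h2).eq_sum (by nlinarith)
      rw [← h3.2, h3.1] at h4
      exact h4.symm

theorem ev_mul_cen (hι : Cen ι) (a : ℕ → A) : ∀ l : List ℕ,
    ev (fun c => y c * ι (a c)) l = ev y l * ι (l.map a).sum
  | [] => by simp [hι.zero]
  | c :: l => by
    rw [ev_cons, ev_cons, ev_mul_cen hι a l, List.map_cons, List.sum_cons, hι.add, mul_assoc,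
      ← mul_assoc (ι _), hι.comm]
    simp only [mul_assoc]

end sound

universe u

/-- The relations that have to hold in the group. -/
structure Rels (D : Dat) {G : Type*} [Group G] (y : ℕ → G) : Prop where
  zero : y 0 = 1
  pc : ∀ j i, i ≤ j → j < D.n1 → ev (evN y D.b) (lhsL D.p j i) =
    ev (evN y D.b) (rhsL (wdOf D.T D.ew (j * D.n1 + i)) j i)
  fus : ∀ f i, f < D.nf → i < D.cm → y (D.n1 + f) * evN y D.b (D.q1 (f * D.cm + i)) =
    evN y D.b (D.q2 (f * D.cm + i)) * y (D.n1 + f)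

theorem exists_tails {Γ G : Type*} [Group Γ] [Group G] {σ : Γ →* G} (hσ : IsStemExtension σ)
    {y : ℕ → G} (hR : D.Rels y) (hn : 0 < D.n1) (hNV : D.NV = D.n1 * D.n1 + D.nf * D.cm) {z : ℕ → Γ}
    (hz : ∀ a, σ (z a) = y a) : letI := kerComm hσ
      ∃ τ : ℕ → Additive σ.ker, D.Tails z (fun a => (a.toMul : Γ)) τ := by
  letI := kerComm hσ
  have hev : ∀ l, σ (ev (evN z D.b) l) = ev (evN y D.b) l := fun l => by
    rw [map_ev]; simp only [map_evN, hz]
  have key : ∀ x, ∃ t : σ.ker, (∀ j i, i ≤ j → j < D.n1 → x = j * D.n1 + i →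
      ev (evN z D.b) (lhsL D.p j i) = ev (evN z D.b) (rhsL (wdOf D.T D.ew x) j i) * t) ∧
      ∀ f i, f < D.nf → i < D.cm → x = D.n1 * D.n1 + (f * D.cm + i) →
        z (D.n1 + f) * evN z D.b (D.q1 (f * D.cm + i)) =
          evN z D.b (D.q2 (f * D.cm + i)) * z (D.n1 + f) * t := by
    intro x
    by_cases h1 : ∃ j i, i ≤ j ∧ j < D.n1 ∧ x = j * D.n1 + i
    · obtain ⟨j, i, a1, a2, rfl⟩ := h1
      refine ⟨⟨(ev (evN z D.b) (rhsL (wdOf D.T D.ew (j * D.n1 + i)) j i))⁻¹ *
        ev (evN z D.b) (lhsL D.p j i), ?_⟩, fun j' i' b1 b2 he => ?_, fun f i' _ _ he => ?_⟩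
      · rw [MonoidHom.mem_ker, map_mul, map_inv, hev, hev, hR.pc j i a1 a2, inv_mul_cancel]
      · have e1 := congrArg (· % D.n1) he
        simp only [Nat.mul_add_mod_self_right, Nat.mod_eq_of_lt (a1.trans_lt a2),
          Nat.mod_eq_of_lt (b1.trans_lt b2)] at e1
        subst e1
        obtain rfl := Nat.eq_of_mul_eq_mul_right hn (Nat.add_right_cancel he)
        simp
      · exfalso; nlinarith
    by_cases h2 : ∃ f i, f < D.nf ∧ i < D.cm ∧ x = D.n1 * D.n1 + (f * D.cm + i)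
    · obtain ⟨f, i, a1, a2, rfl⟩ := h2
      refine ⟨⟨(evN z D.b (D.q2 (f * D.cm + i)) * z (D.n1 + f))⁻¹ *
        (z (D.n1 + f) * evN z D.b (D.q1 (f * D.cm + i))), ?_⟩,
        fun j' i' b1 b2 he => absurd ⟨j', i', b1, b2, he⟩ h1, fun f' i' b1 b2 he => ?_⟩
      · simp only [MonoidHom.mem_ker, map_mul, map_inv, map_evN, hz]
        rw [hR.fus f i a1 a2, inv_mul_cancel]
      · have he := Nat.add_left_cancel he
        have e1 := congrArg (· % D.cm) he
        simp only [Nat.mul_add_mod_self_right, Nat.mod_eq_of_lt a2, Nat.mod_eq_of_lt b2] at e1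
        subst e1
        obtain rfl := Nat.eq_of_mul_eq_mul_right (by omega) (Nat.add_right_cancel he)
        exact (mul_inv_cancel_left _ _).symm
    · exact ⟨1, fun j i a1 a2 he => absurd ⟨j, i, a1, a2, he⟩ h1,
        fun f i a1 a2 he => absurd ⟨f, i, a1, a2, he⟩ h2⟩
  choose τ h1 h2 using key
  exact ⟨fun x => Additive.ofMul (τ x), ⟨fun _ _ => rfl,
    fun a g => (Subgroup.mem_center_iff.mp (hσ.2.1 a.toMul.2) g).symm⟩,
    fun a b he => Additive.toMul.injective (Subtype.ext he), hNV,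
    fun j i a1 a2 => h1 _ j i a1 a2 rfl, fun f i a1 a2 => h2 _ f i a1 a2 rfl⟩

/-- The main theorem of the checker. -/
theorem pb {G : Type u} [Group G] [Finite G] {y : ℕ → G} {e n : ℕ} (hp : D.p.Prime)
    (hq : D.q = D.p ^ (e + 1)) (hn : D.n1 = n + 1) (hms : ∀ m ∈ D.ms, m ∣ D.p ^ e) (hR : D.Rels y)
    (hP : D.p ^ n ≤ Nat.card (Subgroup.closure (y '' {l | 0 < l ∧ l ≤ n})))
    (hG : ¬ D.p ^ (n + 1) ∣ Nat.card G) (h0 : D.chkHead = true) (h1 : D.chkVars 0 D.NV = true)
    (h2 : D.chkRhos 0 D.r = true) (h3 : D.chkEnts 0 (D.n1 * D.n1) = true) : PB G D.p D.ms := by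
  refine PB.of_exponent hp hms fun Γ _ _ σ hσ hexp => ?_
  rw [← pow_succ', ← hq] at hexp
  simp only [chkHead, chkVars, chkRhos, chkEnts, withCol, withNum, force_eq, band_eq, blt_iff,
    ble_iff, beq_iff, allLt_iff, allRange_iff, lenL_eq] at h0 h1 h2 h3
  obtain ⟨hb, hnb, hn0, hNV, hB, hlen, hs0, hav, hord⟩ := h0
  change D.q * D.q * (D.NV + D.r + (D.fl + D.p + 2)) < 2 ^ D.w2 at hB
  change D.n1 ≤ 2 ^ D.b at hnb
  have hq1 : 1 < D.q := by rw [hq]; exact Nat.one_lt_pow (by omega) hp.one_lt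
  let z : ℕ → Γ := fun a => if a = 0 then 1 else Function.surjInv hσ.1 (y a)
  have hz : ∀ a, σ (z a) = y a := fun a => by
    by_cases ha : a = 0
    · simp [z, ha, hR.zero]
    · simp [z, ha, Function.surjInv_eq]
  have hz0 : z 0 = 1 := rfl
  letI := kerComm hσ
  obtain ⟨τ, hT⟩ := exists_tails hσ hR hn0 hNV hz
  set ι : Additive σ.ker → Γ := fun a => (a.toMul : Γ) with hι
  have hqA : ∀ a : Additive σ.ker, D.q • a = 0 := fun a =>
    Additive.toMul.injective (Subtype.ext (hexp _ a.toMul.2))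
  have hent : ∀ j i, i ≤ j → j < D.n1 → D.chkEnt D.q D.w2 (msk D.w2) D.d (j * D.n1 + i) = true ∧
      Nat.div (j * D.n1 + i) D.n1 = j ∧ Nat.mod (j * D.n1 + i) D.n1 = i := fun j i a1 a2 =>
    ⟨h3 _ (Nat.zero_le _) (by nlinarith), by
      change (j * D.n1 + i) / D.n1 = j
      rw [add_comm, Nat.add_mul_div_right _ _ hn0, Nat.div_eq_of_lt (by omega), zero_add], by
      change (j * D.n1 + i) % D.n1 = i
      rw [Nat.mul_add_mod_self_right, Nat.mod_eq_of_lt (by omega)]⟩
  have hs : ∀ a, a < D.n1 → evN z D.b a = z a := fun a ha => evN_single hb hz0 (by omega)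
  have hpc1 : ∀ j i, i < j → j < D.n1 →
      z j * z i = z i * evN z D.b (wdOf D.T D.ew (j * D.n1 + i)) * ι (τ (j * D.n1 + i)) := by
    intro j i a1 a2
    have := hT.pc j i a1.le a2
    rw [lhsL, rhsL, (blt_iff _ _).mpr a1] at this
    simpa [hs j a2, hs i (by omega)] using this
  have hpc2 : ∀ i, i < D.n1 →
      z i ^ D.p = evN z D.b (wdOf D.T D.ew (i * D.n1 + i)) * ι (τ (i * D.n1 + i)) := by
    intro i a2
    have := hT.pc i i le_rfl a2
    have e0 : blt i i = false := by rw [← Bool.not_eq_true, blt_iff]; omega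
    rw [lhsL, rhsL, e0] at this
    simpa [ev_repL, hs i a2] using this
  have hc := col_ok (w := D.w) (N := D.NV) hT.cen hb hz0 hp.pos (by rw [hT.nv]; omega)
    (fun j i a1 a2 => by
      obtain ⟨e1, e2, e3⟩ := hent j i a1 a2
      unfold chkEnt at e1
      simp only [force_eq, e2, e3, bor_eq, band_eq, blt_iff, beq_iff] at e1
      obtain ⟨f1, f2, -⟩ := e1.resolve_left (by omega)
      exact ⟨f1, by rw [← shr_eq]; exact f2⟩) hpc1 hpc2 D.fuel
  have hvar := vars_sound hT hc hq1 hqA (by nlinarith) fun v hv => h1 v (Nat.zero_le _) (by omega)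
  have hbNF : ∀ v, v < D.NV → bdd D.q D.w2 (msk D.w2) D.d (D.NF v) = true :=
    fun v hv => ((band_eq _ _).mp (h1 v (Nat.zero_le _) (by omega))).1
  have hbg : ∀ s, s < D.r → bdd D.q D.w2 (msk D.w2) D.d (D.gv s) = true :=
    fun s hs => ((band_eq _ _).mp (h2 s (Nat.zero_le _) (by omega))).1
  have hneg : ∀ a : Additive σ.ker, (D.q - 1) • a = -a := fun a => by
    rw [eq_neg_iff_add_eq_zero, ← succ_nsmul, Nat.sub_add_cancel hq1.le, hqA]
  have hrho : ∀ s, D.s0 ≤ s → s < D.r → D.val τ (D.gv s) = 0 := by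
    intro s a1 a2
    have e1 := ((band_eq _ _).mp (h2 s (Nat.zero_le _) (by omega))).2
    rw [bor_eq, blt_iff] at e1
    obtain ⟨X, hX, e2⟩ := rel_sound hT hc (by omega) hqA (e1.resolve_left (by omega))
    obtain ⟨e3, e4⟩ := lin_zero (τ := τ) (by omega) hqA hbNF ((VRep.of_bdd (hbg s a2)).mul (D.q - 1))
      (lt_of_le_of_lt (by have := Nat.sub_le D.q 1; nlinarith) hB) e2
    rw [sum_congr rfl (g := fun u => (look (msk D.w) X (Nat.mul D.w u) % D.q) • τ u), hX, add_zero,
      hneg, neg_eq_zero] at e4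
    · exact e4
    · intro u hu
      by_cases e5 : look (msk D.w) X (Nat.mul D.w u) % D.q = 0
      · rw [e5]; simp
      · rw [hvar _ u (mem_range.mp hu) rfl ((blt_iff _ _).mp (e3 u (mem_range.mp hu) e5))]
  refine ⟨(List.range D.s0).map fun s => ι (D.val τ (D.gv s)), ?_, ?_⟩
  · refine List.forall₂_iff_get.mpr ⟨by simp [hlen], fun s a1 a2 => ?_⟩
    simp only [List.get_eq_getElem, List.getElem_map, List.getElem_range]
    refine ⟨(D.val τ (D.gv s)).toMul.2, ?_⟩
    obtain ⟨e1, e2⟩ := hord s (by omega)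
    obtain ⟨e3, e4⟩ := lin_zero (τ := τ) (by omega) hqA hbg
      ((VRep.of_bdd (hbg s (by omega))).mul (nth D.ms 0 s)) (lt_of_le_of_lt (by nlinarith) hB) e2
    rw [sum_eq_zero, add_zero, nth_eq, List.getD_eq_getElem _ _ a2] at e4
    · exact congrArg ι e4
    · intro u hu
      by_cases e5 : look (msk D.mw) (D.om s) (Nat.mul D.mw u) % D.q = 0
      · rw [e5]; simp
      · rw [hrho u ((ble_iff _ _).mp (e3 u (mem_range.mp hu) e5)) (mem_range.mp hu), smul_zero]
  set K := Subgroup.closure {k | k ∈ (List.range D.s0).map fun s => ι (D.val τ (D.gv s))} with hK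
  have hle : K ≤ σ.ker := by
    rw [hK, Subgroup.closure_le]
    intro k hk
    obtain ⟨s, -, rfl⟩ := List.mem_map.mp hk
    exact (D.val τ (D.gv s)).toMul.2
  have := normal_of_le_ker hσ.2.1 hle
  let K' : AddSubgroup (Additive σ.ker) := (K.subgroupOf σ.ker).toAddSubgroup
  have hgK : ∀ s, s < D.r → D.val τ (D.gv s) ∈ K' := fun s hs => by
    by_cases a1 : s < D.s0
    · exact Subgroup.subset_closure (List.mem_map.mpr ⟨s, List.mem_range.mpr a1, rfl⟩)
    · rw [hrho s (by omega) hs]; exact zero_mem _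
  let a : ℕ → Additive σ.ker := fun l => D.val τ (D.av l)
  let y2 : ℕ → Γ ⧸ K := fun l => (z l * ι (a l) : Γ)
  have hfin : ∀ j i, 1 ≤ i → i ≤ j → j < D.n1 → ∃ l : List ℕ, (∀ c ∈ l, i < c ∧ c ≤ n) ∧
      evN z D.b (wdOf D.T D.ew (j * D.n1 + i)) = ev z l ∧
      ι (τ (j * D.n1 + i) + (if i < j then a j else D.p • a i) - (l.map a).sum) ∈ K := by
    intro j i a0 a1 a2
    obtain ⟨e1, e2, e3⟩ := hent j i a1 a2
    unfold chkEnt at e1
    simp only [force_eq, e2, e3, bor_eq, band_eq, blt_iff, beq_iff, allL_iff] at e1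
    obtain ⟨-, -, f3, f4⟩ := e1.resolve_left (by omega)
    obtain ⟨f4, f5, f6⟩ := f4.resolve_left (by omega)
    have hx : j * D.n1 + i < D.NV := by rw [hT.nv]; nlinarith
    refine ⟨_, fun c hc => ⟨(f4 c hc).1, by have := (f4 c hc).2; omega⟩,
      by rw [digs_eq hb _ _ f3]; rfl, ?_⟩
    have g1 : VRep (fun j => τ (D.par j)) D.w2 D.d (Bool.rec (motive := fun _ => ℕ)
        (Nat.mul D.p (D.av i)) (D.av j) (blt i j)) (D.p * D.q) (if i < j then a j else D.p • a i) := by
      split_ifs with hij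
      · rw [(blt_iff _ _).mpr hij]
        exact (VRep.of_bdd (hav j a2)).mono (Nat.le_mul_of_pos_left _ hp.pos)
      · have e0 : blt i j = false := by rw [← Bool.not_eq_true, blt_iff]; exact hij
        rw [e0]
        exact (VRep.of_bdd (hav i (by omega))).mul _
    have g2 := length_digs D.b (msk D.b) D.fl (wdOf D.T D.ew (j * D.n1 + i))
    obtain ⟨-, e4⟩ := lin_zero (τ := τ) (by omega) hqA hbg (((VRep.of_bdd (hbNF _ hx)).add g1).add
      ((VRep.sumL (val := a) _ fun c hc => VRep.of_bdd (hav c (f4 c hc).2)).mul (D.q - 1)))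
      (lt_of_le_of_lt (by
        have i1 := Nat.mul_le_mul (Nat.sub_le D.q 1) (Nat.mul_le_mul_right D.q g2)
        have i2 : D.q ≤ D.q * D.q := Nat.le_mul_self _
        have i3 : D.p * D.q ≤ D.p * (D.q * D.q) := Nat.mul_le_mul_left _ i2
        have i4 : D.q * D.q * (D.NV + D.r + (D.fl + D.p + 2)) = D.q * D.q * D.NV + D.r * (D.q * D.q) +
          D.q * (D.fl * D.q) + D.p * (D.q * D.q) + 2 * (D.q * D.q) := by ring
        rw [i4]; omega) hB) f6
    rw [hneg, ← sub_eq_add_neg, add_eq_zero_iff_eq_neg] at e4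
    have e5 : vval (fun j => τ (D.par j)) D.w2 D.d (D.NF (j * D.n1 + i)) = τ (j * D.n1 + i) :=
      hvar _ _ hx rfl f5
    rw [e5] at e4
    rw [e4]
    exact (K'.neg_mem (K'.sum_mem fun u hu => K'.nsmul_mem (hgK u (mem_range.mp hu)) _) : _ ∈ K')
  have hmem : ∀ (i : ℕ) (l : List ℕ), (∀ c ∈ l, i < c ∧ c ≤ n) →
      ((ev z l * ι (l.map a).sum : Γ) : Γ ⧸ K) ∈ Subgroup.closure (y2 '' {l | i < l ∧ l ≤ n}) := by
    intro i l hl
    rw [← ev_mul_cen hT.cen]
    have := map_ev (fun c => z c * ι (a c)) (QuotientGroup.mk' K) l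
    rw [QuotientGroup.mk'_apply] at this
    rw [this]
    exact ev_mem _ fun c hc => Subgroup.subset_closure ⟨c, hl c hc, rfl⟩
  refine (ker_eq_of_quotient K hle (ker_eq_bot_of_split (isStem_quotient hσ K hle) hp
    (e := e + 1) (n := n) (fun t ht => ?_) (Subgroup.closure (y2 '' {l | 0 < l ∧ l ≤ n}))
    (pc_card_le y2 hp.pos (fun i j a0 a1 a2 => ?_) (fun i a0 a2 => ?_)) ?_ hG)).le
  · obtain ⟨t, rfl⟩ := QuotientGroup.mk_surjective t
    rw [← hq, ← QuotientGroup.mk_pow, hexp t ht, QuotientGroup.mk_one]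
  · obtain ⟨l, l1, l2, l3⟩ := hfin j i a0 a1.le (by omega)
    rw [if_pos a1] at l3
    convert hmem i l l1 using 1
    simp only [y2, ← QuotientGroup.mk_inv, ← QuotientGroup.mk_mul]
    rw [eq_comm, QuotientGroup.eq]
    convert l3 using 1
    rw [inv_mul_eq_iff_eq_mul, mul_assoc, inv_mul_eq_iff_eq_mul, mul_assoc, ← mul_assoc (ι _),
      hT.cen.comm, ← mul_assoc, ← mul_assoc, ← mul_assoc, hpc1 j i a1 (by omega), l2,
      mul_assoc (z i) (ι _), ← mul_assoc (ι (a i)), hT.cen.comm (a i)]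
    simp only [mul_assoc, ← hT.cen.add]
    congr 3; abel
  · obtain ⟨l, l1, l2, l3⟩ := hfin i i a0 le_rfl (by omega)
    rw [if_neg (lt_irrefl _)] at l3
    convert hmem i l l1 using 1
    simp only [y2, ← QuotientGroup.mk_pow]
    rw [eq_comm, QuotientGroup.eq]
    convert l3 using 1
    rw [inv_mul_eq_iff_eq_mul, (show Commute (z i) (ι (a i)) from (hT.cen.comm _ _).symm).mul_pow,
      hpc2 i (by omega), l2, show ι (a i) ^ D.p = ι (D.p • a i) from rfl]
    simp only [mul_assoc, ← hT.cen.add]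
    congr 2; abel
  · rw [MonoidHom.map_closure, Set.image_image]
    have : (fun l => QuotientGroup.lift K σ hle (y2 l)) = y := by
      funext l
      change σ (z l * ι (a l)) = y l
      rw [map_mul, hz, show σ (ι (a l)) = 1 from (a l).toMul.2, mul_one]
    rw [this]; exact hP

end Dat

end Cfsg.Agent.Mult
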